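import Cfsg.Agent.H21.FHall
import Cfsg.Agent.H23.Coprime3

/-! Weak type I (Bender-Glauberman / Peterfalvi): clause (c) speaks of `O_{p'}(M_F)`, not of `O_{p'}(M)`. -/

set_option autoImplicit false

namespace Cfsg.Agent.H2

open Subgroup Cfsg
open Cfsg.Agent.L (cj nz SylIn)
open Cfsg.Agent.H14 (IsPiSub)
open Cfsg.Agent.OOT
open Cfsg.Agent.H21

universe u
variable {G : Type u} [Group G]

/-- weak type I: as `IsOfTypeI` but with `O_{p'}(M_F)` cyclic instead of `O_{p'}(M)` cyclic. -/
def WTypeI (M : Subgroup G) : Prop :=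
  IsOfTypeF M ∧
  ( IsTISubset (fittingHallOf M : Set G) ∨
    (IsMulCommutative (fittingHallOf M) ∧ RankLE 2 (fittingHallOf M) ∧ ¬ RankLE 1 (fittingHallOf M)) ∨
    ((∀ p : ℕ, p.Prime → p ∣ Nat.card (fittingHallOf M) →
        Monoid.exponent (M ⧸ fittingHall M) ∣ p - 1) ∧
      ∃ p : ℕ, p.Prime ∧ p ∣ Nat.card (fittingHallOf M) ∧ IsCyclic (pPrimeCore p (fittingHallOf M))) )

/-- `A(M)` for weak type I. -/
def wA (M : Subgroup G) : Set G :=
  {a | a ∈ M ∧ a ≠ 1 ∧ ∃ x ∈ fittingHallOf M, x ≠ 1 ∧ a * x = x * a}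

theorem wA_eq {M : Subgroup G} (h : IsOfTypeI M) : typeA M = wA M := by
  rw [typeA, if_pos h]; rfl

variable [Finite G]

/-- `O_{p'}(M_F)` inside `G` is contained in `O_{p'}(M)` inside `G`. -/
theorem ppc_fh_le (M : Subgroup G) (p : ℕ) :
    (pPrimeCore p ↥(fittingHallOf M)).map (fittingHallOf M).subtype ≤ (pPrimeCore p M).map M.subtype := by
  set T := (pPrimeCore p ↥(fittingHallOf M)).map (fittingHallOf M).subtype with hT
  have h1 : T ≤ M := (map_subtype_le _).trans (fhOf_le M)
  have h2 : M ≤ normalizer (T : Set G) :=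
    (le_normalizer_fhOf M).trans (H23.normalizer_le_normalizer_map _)
  have h3 : (T.subgroupOf M).Normal := (normal_subgroupOf_iff_le_normalizer h1).2 h2
  have h4 : T.subgroupOf M ≤ pPrimeCore p M := H1.le_pPrimeCore h3 (by
    rw [H1.card_subgroupOf h1, hT, H1.card_map_subtype]
    exact H1.pPrimeCore_coprime p _)
  have h5 := map_mono (f := M.subtype) h4
  rwa [map_subgroupOf_eq_of_le h1] at h5

theorem isCyclic_of_le {A B : Subgroup G} (h : A ≤ B) (hB : IsCyclic B) : IsCyclic A :=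
  isCyclic_of_injective (inclusion h) (inclusion_injective h)

theorem isCyclic_map_iff {H : Subgroup G} (K : Subgroup H) : IsCyclic (K.map H.subtype) ↔ IsCyclic K :=
  (K.equivMapOfInjective H.subtype H.subtype_injective).isCyclic.symm

theorem WTypeI.of_typeI {M : Subgroup G} (h : IsOfTypeI M) : WTypeI M := by
  obtain ⟨h1, h2⟩ := h
  refine ⟨h1, ?_⟩
  rcases h2 with h2 | h2 | ⟨h2, p, hp, hd, hc⟩
  · exact Or.inl h2
  · exact Or.inr (Or.inl h2)
  · refine Or.inr (Or.inr ⟨h2, p, hp, hd, ?_⟩)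
    rw [← isCyclic_map_iff] at hc ⊢
    exact isCyclic_of_le (ppc_fh_le M p) hc

/-- once `M` is Frobenius with kernel `M_F`, weak type I is type I. -/
theorem WTypeI.typeI_of_frob {M : Subgroup G} (h : WTypeI M)
    (hf : ∀ x ∈ fittingHallOf M, x ≠ 1 → M ⊓ centralizer ({x} : Set G) ≤ fittingHallOf M) :
    IsOfTypeI M := by
  obtain ⟨h1, h2⟩ := h
  refine ⟨h1, ?_⟩
  rcases h2 with h2 | h2 | ⟨h2, p, hp, hd, hc⟩
  · exact Or.inl h2
  · exact Or.inr (Or.inl h2)
  · refine Or.inr (Or.inr ⟨h2, p, hp, hd, ?_⟩)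
    haveI : Fact p.Prime := ⟨hp⟩
    rw [← isCyclic_map_iff] at hc ⊢
    refine isCyclic_of_le ?_ hc
    -- an element of order `p` in `O_p(M_F)`
    set H := fittingHallOf M with hH
    set P := (pCore p ↥H).map H.subtype with hP
    have hPM : P ≤ M := (map_subtype_le _).trans (fhOf_le M)
    have hPn : M ≤ normalizer (P : Set G) :=
      (le_normalizer_fhOf M).trans (H23.normalizer_le_normalizer_map _)
    have hP1 : P ≠ ⊥ := by
      intro h0
      have h3 : pCore p ↥H = ⊥ := by
        rw [hP, map_eq_bot_iff_of_injective _ H.subtype_injective] at h0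
        exact h0
      obtain ⟨S⟩ : Nonempty (Sylow p ↥H) := inferInstance
      have h4 : (S : Subgroup ↥H).Normal := by
        have := H1.isNilpotent_iff_sylow_normal.1 (fhOf_nilpotent M) p inferInstance S
        exact this
      have h5 := H1.le_pCore h4 S.2
      rw [h3, le_bot_iff] at h5
      have h6 := S.dvd_card_of_dvd_card hd
      rw [h5, card_bot] at h6
      exact hp.one_lt.ne' (Nat.dvd_one.1 h6)
    obtain ⟨x, hx, hx1⟩ := (bot_or_exists_ne_one P).resolve_left hP1
    set T := (pPrimeCore p M).map M.subtype with hT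
    have hTM : T ≤ M := map_subtype_le _
    have hTn : M ≤ normalizer (T : Set G) := le_normalizer_map_subtype inferInstance
    have hTc : (Nat.card T).Coprime p := by
      rw [hT, H1.card_map_subtype]; exact H1.pPrimeCore_coprime p _
    have hTP : T ⊓ P = ⊥ := by
      have hPp : IsPGroup p P := (H1.pCore_isPGroup p _).map _
      obtain ⟨n, hn⟩ := IsPGroup.iff_card.1 hPp
      apply inf_eq_bot_of_coprime
      rw [hn]; exact Nat.Coprime.pow_right _ hTc
    have hTle : T ≤ H := by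
      intro t ht
      refine hf x ?_ hx1 (Subgroup.mem_inf.2 ⟨hTM ht, ?_⟩)
      · exact (map_subtype_le _ : P ≤ H) hx
      · rw [mem_centralizer_singleton_iff]
        have h3 : t * x * t⁻¹ * x⁻¹ ∈ T ⊓ P := by
          refine Subgroup.mem_inf.2 ⟨?_, ?_⟩
          · have := (mem_normalizer_iff.1 (hTn (hPM hx)) t⁻¹).1 (inv_mem ht)
            have h4 := mul_mem ht this
            have e : t * x * t⁻¹ * x⁻¹ = t * (x * t⁻¹ * x⁻¹) := by group
            rw [e]; exact h4
          · exact mul_mem ((mem_normalizer_iff.1 (hPn (hTM ht)) x).1 hx) (inv_mem hx)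
        rw [hTP, mem_bot] at h3
        exact mul_inv_eq_iff_eq_mul.1 (mul_inv_eq_one.1 h3)
    -- `T ≤ O_{p'}(H)`
    have h3 : (T.subgroupOf H).Normal :=
      (normal_subgroupOf_iff_le_normalizer hTle).2 ((fhOf_le M).trans hTn)
    have h4 : T.subgroupOf H ≤ pPrimeCore p H := H1.le_pPrimeCore h3 (by
      rw [H1.card_subgroupOf hTle]; exact hTc)
    have h5 := map_mono (f := H.subtype) h4
    rwa [map_subgroupOf_eq_of_le hTle] at h5

end Cfsg.Agent.H2
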