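import Mathlib
import Cfsg.Agent.H2.Conj

/-!
Conjugacy of abelian Hall subgroups.
-/

set_option autoImplicit false
set_option linter.style.haveILetI false
set_option linter.unusedVariables false

namespace Cfsg.Agent.H2

open Subgroup
open scoped commutatorElement Pointwise

section abhall

variable {G : Type*} [Group G] {p : ℕ}

/-- `B ≤ A` as soon as for all primes `q` some Sylow `q`-subgroup of `B` lies in `A`. -/
theorem le_of_sylow_le [Finite G] {A B : Subgroup G}
    (h : ∀ q : ℕ, ∀ _ : Fact q.Prime, ∃ Q : Sylow q B, (Q : Subgroup B).map B.subtype ≤ A) :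
    B ≤ A := by
  rw [← Subgroup.relIndex_eq_one]
  by_contra hne
  obtain ⟨q, hq, hqd⟩ := Nat.exists_prime_and_dvd hne
  haveI : Fact q.Prime := ⟨hq⟩
  obtain ⟨Q, hQ⟩ := h q ‹_›
  apply Q.not_dvd_index
  refine hqd.trans ?_
  apply Subgroup.index_dvd_of_le
  intro x hx
  rw [Subgroup.mem_subgroupOf]
  exact hQ ⟨x, hx, rfl⟩

/-- A Sylow subgroup of a Hall subgroup `A` of `X` is Sylow in `X`. -/
theorem exists_sylow_map_eq [Finite G] [hp : Fact p.Prime] {A X : Subgroup G} (hAX : A ≤ X)
    (hcop : Nat.Coprime (Nat.card A) (A.relIndex X)) (hpA : p ∣ Nat.card A) (Q : Sylow p A) :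
    ∃ S : Sylow p X, (S : Subgroup X).map X.subtype = (Q : Subgroup A).map A.subtype := by
  have h1 : (Q : Subgroup A).map A.subtype ≤ X := by
    rintro _ ⟨y, _, rfl⟩; exact hAX y.2
  have h2 : ¬ p ∣ ((Q : Subgroup A).map A.subtype).relIndex X := by
    have h3 : ((Q : Subgroup A).map A.subtype).relIndex A = (Q : Subgroup A).index := by
      rw [Subgroup.relIndex, Subgroup.subgroupOf, Subgroup.comap_map_eq_self_of_injective
        A.subtype_injective]
    have h4 : ((Q : Subgroup A).map A.subtype).relIndex A * A.relIndex X =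
        ((Q : Subgroup A).map A.subtype).relIndex X :=
      Subgroup.relIndex_mul_relIndex _ _ _ (by rintro _ ⟨y, _, rfl⟩; exact y.2) hAX
    rw [← h4, h3]
    intro hd
    rcases (Nat.Prime.dvd_mul hp.out).1 hd with h5 | h5
    · exact Q.not_dvd_index h5
    · exact hp.out.one_lt.ne' (Nat.dvd_one.1 (hcop.gcd_eq_one ▸ Nat.dvd_gcd hpA h5))
  obtain ⟨S, hS⟩ := exists_sylow_subgroupOf (Q.2.map A.subtype) h2
  refine ⟨S, ?_⟩
  rw [hS, Subgroup.subgroupOf_map_subtype, inf_eq_left]; exact h1

/-- Two abelian Hall subgroups of the same order are conjugate. -/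
theorem exists_conj_of_abelian_hall [Finite G] :
    ∀ (n : ℕ) (X A B : Subgroup G), Nat.card X = n → A ≤ X → B ≤ X →
      (∀ x ∈ A, ∀ y ∈ A, x * y = y * x) → (∀ x ∈ B, ∀ y ∈ B, x * y = y * x) →
      Nat.card A = Nat.card B → Nat.Coprime (Nat.card A) (A.relIndex X) →
      ∃ x ∈ X, B.map (MulAut.conj x).toMonoidHom = A := by
  intro n
  induction n using Nat.strong_induction_on with
  | _ n ih =>
    intro X A B hn hAX hBX hA hB hcard hcop
    have hcopB : Nat.Coprime (Nat.card B) (B.relIndex X) := by
      have h1 := card_relIndex_mul_card hAX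
      have h2 := card_relIndex_mul_card hBX
      rw [← hcard] at h2 ⊢
      have h3 : B.relIndex X = A.relIndex X :=
        Nat.eq_of_mul_eq_mul_right Nat.card_pos (h2.trans h1.symm)
      rw [h3]; exact hcop
    by_cases hcase : ∀ (q : ℕ) (_ : Fact q.Prime) (Q : Sylow q A), q ∣ Nat.card A →
        X ≤ Subgroup.centralizer (((Q : Subgroup A).map A.subtype : Subgroup G) : Set G)
    · -- `A = B`
      refine ⟨1, one_mem _, ?_⟩
      rw [map_conj_one]
      apply eq_of_le_of_card_eq _ hcard.symm
      apply le_of_sylow_le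
      intro q hq
      obtain ⟨R⟩ := (inferInstance : Nonempty (Sylow q B))
      refine ⟨R, ?_⟩
      by_cases hqA : q ∣ Nat.card A
      · obtain ⟨Q⟩ := (inferInstance : Nonempty (Sylow q A))
        obtain ⟨S, hS⟩ := exists_sylow_map_eq hAX hcop hqA Q
        obtain ⟨T, hT⟩ := exists_sylow_map_eq hBX hcopB (hcard ▸ hqA) R
        obtain ⟨x, hx⟩ := MulAction.exists_smul_eq X S T
        have h1 := hcase q hq Q hqA x.2
        rintro y hy
        rw [← hT] at hy
        obtain ⟨z, hz, rfl⟩ := hy
        rw [← hx] at hz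
        have hz' : z ∈ (MulAut.conj x • (S : Subgroup X) : Subgroup X) := hz
        rw [← map_conj_eq_smul, mem_map_conj] at hz'
        have h2 : ((x⁻¹ * z * x : X) : G) ∈ (Q : Subgroup A).map A.subtype := by
          rw [← hS]; exact ⟨_, hz', rfl⟩
        have h3 := (Subgroup.mem_centralizer_iff.1 h1) _ h2
        have h4 : (z : G) = ((x⁻¹ * z * x : X) : G) := by
          have h5 : ((x⁻¹ * z * x : X) : G) = (x : G)⁻¹ * z * x := by push_cast; rfl
          rw [h5] at h3 ⊢
          have h6 : (x : G) * ((x : G)⁻¹ * z * x) = z * x := by group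
          rw [h6] at h3
          exact (mul_right_cancel h3).symm
        show (z : G) ∈ A
        rw [h4]
        obtain ⟨w, hw, hw2⟩ := h2
        rw [← hw2]; exact w.2
      · have h1 : (R : Subgroup B) = ⊥ := by
          rw [← Subgroup.card_eq_one]
          rcases R.2.card_eq_or_dvd with h | h
          · exact h
          · exact absurd (hcard ▸ h.trans (Subgroup.card_subgroup_dvd_card _)) hqA
        rw [h1, Subgroup.map_bot]; exact bot_le
    · push Not at hcase
      obtain ⟨q, hq, Q, hqA, hcen⟩ := hcase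
      obtain ⟨R⟩ := (inferInstance : Nonempty (Sylow q B))
      obtain ⟨S, hS⟩ := exists_sylow_map_eq hAX hcop hqA Q
      obtain ⟨T, hT⟩ := exists_sylow_map_eq hBX hcopB (hcard ▸ hqA) R
      obtain ⟨x, hx⟩ := MulAction.exists_smul_eq X T S
      set Q' : Subgroup G := (Q : Subgroup A).map A.subtype with hQ'
      set X' : Subgroup G := X ⊓ Subgroup.centralizer (Q' : Set G) with hX'
      set B' : Subgroup G := B.map (MulAut.conj (x : G)).toMonoidHom with hB'
      have hQA : Q' ≤ A := by rintro _ ⟨y, _, rfl⟩; exact y.2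
      have hB'X : B' ≤ X := by
        rintro _ ⟨b, hb, rfl⟩
        exact mul_mem (mul_mem x.2 (hBX hb)) (inv_mem x.2)
      have hB'comm : ∀ u ∈ B', ∀ v ∈ B', u * v = v * u := by
        rintro _ ⟨u, hu, rfl⟩ _ ⟨v, hv, rfl⟩
        rw [← map_mul, ← map_mul, hB u hu v hv]
      have hQB' : Q' ≤ B' := by
        rw [← hS]
        rintro _ ⟨z, hz, rfl⟩
        rw [← hx] at hz
        have hz' : z ∈ (MulAut.conj x • (T : Subgroup X) : Subgroup X) := hz
        rw [← map_conj_eq_smul, mem_map_conj] at hz'
        have h2 : ((x⁻¹ * z * x : X) : G) ∈ (R : Subgroup B).map B.subtype := by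
          rw [← hT]; exact ⟨_, hz', rfl⟩
        rw [hB', mem_map_conj]
        obtain ⟨w, hw, hw2⟩ := h2
        have h3 : ((x : G)⁻¹ * z * x) = w := by
          have : ((x⁻¹ * z * x : X) : G) = (x : G)⁻¹ * z * x := by push_cast; rfl
          rw [← this, ← hw2]; rfl
        show (x : G)⁻¹ * z * x ∈ B
        rw [h3]; exact w.2
      have hAX' : A ≤ X' := by
        refine le_inf hAX fun a ha => ?_
        rw [Subgroup.mem_centralizer_iff]
        intro y hy
        exact hA y (hQA hy) a ha
      have hBX' : B' ≤ X' := by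
        refine le_inf hB'X fun a ha => ?_
        rw [Subgroup.mem_centralizer_iff]
        intro y hy
        exact hB'comm y (hQB' hy) a ha
      have hlt : Nat.card X' < n := by
        rw [← hn]
        have hX'X : X' < X := by
          refine lt_of_le_not_ge inf_le_left fun hle => hcen ?_
          exact hle.trans inf_le_right
        by_contra hle
        push Not at hle
        exact hX'X.ne (Subgroup.eq_of_le_of_card_ge hX'X.le hle)
      obtain ⟨y, hy, hyA⟩ := ih _ hlt X' A B' rfl hAX' hBX' hA hB'comm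
        (by rw [hB', card_map_conj]; exact hcard)
        (Nat.Coprime.coprime_dvd_right (by
          have := Subgroup.relIndex_mul_relIndex A X' X hAX' inf_le_left
          exact Dvd.intro _ this) hcop)
      refine ⟨y * x, mul_mem hy.1 x.2, ?_⟩
      rw [map_conj_mul, ← hB', hyA]

end abhall

end Cfsg.Agent.H2
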