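import Cfsg.Agent.H24.AutFrat
import Cfsg.Agent.OOT.TenE
import Cfsg.Agent.H21.OBasic
import Cfsg.Agent.H22.OddPG11
import Cfsg.Agent.H22.OddPG9
import Mathlib.LinearAlgebra.Center

/-! Automorphisms of a group of order `p³`, exponent `p`, acting freely modulo the centre and trivially
on the centre: the order divides `p - 1` or `p + 1`. -/

set_option autoImplicit false

namespace Cfsg.Agent.H2

open Subgroup
open scoped commutatorElement

theorem ring_pm {R : Type*} [Ring R] {p : ℕ} (hp : p.Prime) (h0 : (p : R) = 0) {f g D : R}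
    (h1 : f * g = 1) (h2 : g * f = 1) (hD : f + g = D) (hDp : D ^ p = D) :
    (f ^ (p - 1) - 1) * (f ^ (p + 1) - 1) = 0 := by
  have hc : Commute f g := by rw [Commute, SemiconjBy, h1, h2]
  obtain ⟨r, hr⟩ := hc.exists_add_pow_prime_eq hp
  rw [h0, zero_mul, zero_mul, zero_mul, add_zero, hD, hDp, ← hD] at hr
  have h3 : f ^ p * g ^ p = 1 := by rw [← hc.mul_pow, h1, one_pow]
  have h4 : f ^ p * g = f ^ (p - 1) := by
    obtain ⟨n, hn⟩ : ∃ n, p = n + 1 := ⟨p - 1, (Nat.sub_add_cancel hp.pos).symm⟩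
    rw [hn, Nat.add_sub_cancel, pow_succ, mul_assoc, h1, mul_one]
  have h5 : f ^ (p - 1) * f ^ (p + 1) = f ^ p * f ^ p := by
    rw [← pow_add, ← pow_add]
    congr 1
    have := hp.pos
    omega
  have h6 : f ^ p * (f + g) = f ^ p * (f ^ p + g ^ p) := by rw [hr]
  rw [mul_add, mul_add, ← pow_succ, h3, h4] at h6
  calc (f ^ (p - 1) - 1) * (f ^ (p + 1) - 1)
      = f ^ (p - 1) * f ^ (p + 1) - f ^ (p - 1) - f ^ (p + 1) + 1 := by noncomm_ring
    _ = (f ^ p * f ^ p + 1) - (f ^ (p + 1) + f ^ (p - 1)) := by rw [h5]; abel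
    _ = 0 := by rw [h6, sub_self]

variable {P : Type*} [Group P] [Finite P] {p : ℕ} [hpF : Fact p.Prime]

/-- fixed points modulo the centre -/
theorem free_mod_center (hexp : ∀ x : P, x ^ p = 1) (γ : MulAut P) (hγ : (orderOf γ).Coprime p)
    (hZ : ∀ z ∈ center P, γ z = z) (hfree : ∀ y, γ y = y → y ∈ center P) {y : P}
    (hy : y⁻¹ * γ y ∈ center P) : y ∈ center P := by
  obtain ⟨z, hz⟩ : ∃ z, z = y⁻¹ * γ y := ⟨_, rfl⟩
  rw [← hz] at hy
  have h1 : γ y = y * z := by rw [hz]; group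
  have h2 : ∀ n : ℕ, (γ ^ n) y = y * z ^ n := by
    intro n
    induction n with
    | zero => rw [pow_zero, pow_zero, mul_one]; rfl
    | succ n ih =>
      rw [pow_succ', MulAut.mul_apply, ih, map_mul, h1, hZ _ (pow_mem hy n), mul_assoc, ← pow_succ']
  have h3 := h2 (orderOf γ)
  rw [pow_orderOf_eq_one, MulAut.one_apply, left_eq_mul] at h3
  have h4 : z = 1 := by
    have h5 := orderOf_dvd_of_pow_eq_one h3
    have h6 := orderOf_dvd_of_pow_eq_one (hexp z)
    have h7 := Nat.dvd_gcd h5 h6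
    rw [hγ] at h7
    exact orderOf_eq_one_iff.1 (Nat.dvd_one.1 h7)
  apply hfree
  rw [h1, h4, mul_one]

theorem trace_comm (hcl : ∀ a b : P, ⁅a, b⁆ ∈ center P) (α : MulAut P) (hZ : ∀ z ∈ center P, α z = z)
    (x : P) : Commute (α x * α⁻¹ x) x := by
  have h1 : α ⁅α⁻¹ x, x⁆ = ⁅x, α x⁆ := by
    rw [map_commutatorElement, MulAut.apply_inv_self]
  have h2 : ⁅α⁻¹ x, x⁆ = ⁅α x, x⁆⁻¹ := by
    rw [commutatorElement_inv, ← h1, hZ _ (hcl _ _)]
  have h3 : ⁅α x * α⁻¹ x, x⁆ = α x * ⁅α⁻¹ x, x⁆ * (α x)⁻¹ * ⁅α x, x⁆ := by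
    rw [commutatorElement_def, commutatorElement_def, commutatorElement_def]; group
  have h4 : α x * ⁅α⁻¹ x, x⁆ = ⁅α⁻¹ x, x⁆ * α x := mem_center_iff.1 (hcl _ _) (α x)
  rw [h4, mul_inv_cancel_right, h2, inv_mul_cancel] at h3
  exact commutatorElement_eq_one_iff_commute.1 h3

theorem cube_facts (hc : Nat.card P = p ^ 3) (hna : ¬ ∀ a b : P, a * b = b * a) :
    Nat.card (center P) = p ∧ ∀ a b : P, ⁅a, b⁆ ∈ center P := by
  have h1 : ¬ IsMulCommutative (⊤ : Subgroup P) := by
    rw [H21.mulComm_iff]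
    exact fun h => hna (fun a b => h a (mem_top a) b (mem_top b))
  have hp3 : IsPGroup p (⊤ : Subgroup P) := IsPGroup.of_card (n := 3) (by rw [card_top, hc])
  have hc' : Nat.card (⊤ : Subgroup P) = p ^ 3 := by rw [card_top, hc]
  have h2 : (⊤ : Subgroup P) ⊓ centralizer ((⊤ : Subgroup P) : Set P) = center P := by
    rw [top_inf_eq, coe_top, centralizer_univ]
  obtain ⟨h3, h4⟩ := H22.cube_center hp3 hc' h1
  rw [h2] at h3 h4
  refine ⟨h3, fun a b => ?_⟩
  rw [← h4]
  exact commutator_mem_commutator (mem_top a) (mem_top b)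

/-- the linear map on `Additive A` induced by an automorphism -/
def linOf {A : Type*} [CommGroup A] [Module (ZMod p) (Additive A)] :
    MulAut A →* Module.End (ZMod p) (Additive A) where
  toFun β := AddMonoidHom.toZModLinearMap p (MonoidHom.toAdditive β.toMonoidHom)
  map_one' := by ext; rfl
  map_mul' _ _ := by ext; rfl

theorem linOf_apply {A : Type*} [CommGroup A] [Module (ZMod p) (Additive A)] (β : MulAut A) (a : A) :
    linOf (p := p) β (Additive.ofMul a) = Additive.ofMul (β a) := rfl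

/-- core computation in an elementary abelian group -/
theorem lin_core {A : Type*} [CommGroup A] [Module (ZMod p) (Additive A)] (β : MulAut A)
    (hcoll : ∀ a : A, ∃ n : ℤ, β a * β⁻¹ a = a ^ n) (a : A) :
    (β ^ (p - 1)) ((β ^ (p + 1)) a / a) = (β ^ (p + 1)) a / a := by
  obtain ⟨f, hf⟩ : ∃ f : Module.End (ZMod p) (Additive A), f = linOf (p := p) β := ⟨_, rfl⟩
  obtain ⟨g, hg⟩ : ∃ g : Module.End (ZMod p) (Additive A), g = linOf (p := p) β⁻¹ := ⟨_, rfl⟩
  have hfg : f * g = 1 := by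
    rw [hf, hg, ← map_mul, mul_inv_cancel, map_one]
  have hgf : g * f = 1 := by
    rw [hf, hg, ← map_mul, inv_mul_cancel, map_one]
  have hc : ∀ v : Additive A, ¬ LinearIndependent (ZMod p) ![v, (f + g) v] := by
    intro v hli
    obtain ⟨n, hn⟩ := hcoll (Additive.toMul v)
    have h3 : (f + g) v = n • v := by
      rw [hf, hg]
      show Additive.ofMul (β (Additive.toMul v) * β⁻¹ (Additive.toMul v)) = _
      rw [hn]; rfl
    have h4 := (LinearIndependent.pair_iff.1 hli) (n : ZMod p) (-1) (by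
      rw [h3, Int.cast_smul_eq_zsmul, neg_one_smul, add_neg_cancel])
    have h5 : (1 : ZMod p) = 0 := by
      have := h4.2
      rwa [neg_eq_zero] at this
    exact one_ne_zero h5
  obtain ⟨d, hd⟩ := LinearMap.exists_eq_smul_id_of_forall_notLinearIndependent hc
  have hDp : (d • (1 : Module.End (ZMod p) (Additive A))) ^ p = d • 1 := by
    rw [smul_pow, one_pow, ZMod.pow_card]
  have hp0 : ((p : ℕ) : Module.End (ZMod p) (Additive A)) = 0 := by
    rw [← map_natCast (algebraMap (ZMod p) (Module.End (ZMod p) (Additive A))) p,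
      ZMod.natCast_self, map_zero]
  have key := ring_pm hpF.out hp0 hfg hgf hd hDp
  have h7 : ∀ i : ℕ, f ^ i = linOf (p := p) (β ^ i) := fun i => by rw [hf, map_pow]
  have h9 := LinearMap.congr_fun key (Additive.ofMul a)
  rw [h7, h7] at h9
  have h10 : Additive.ofMul ((β ^ (p - 1)) ((β ^ (p + 1)) a / a) / ((β ^ (p + 1)) a / a)) = 0 := h9
  have h11 : (β ^ (p - 1)) ((β ^ (p + 1)) a / a) / ((β ^ (p + 1)) a / a) = 1 := h10
  exact div_eq_one.1 h11

theorem aut_cube (hc : Nat.card P = p ^ 3) (hexp : ∀ x : P, x ^ p = 1)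
    (hna : ¬ ∀ a b : P, a * b = b * a) (α : MulAut P) (hα : (orderOf α).Coprime p)
    (hZ : ∀ z ∈ center P, α z = z)
    (hfree : ∀ i : ℕ, α ^ i ≠ 1 → ∀ y, (α ^ i) y = y → y ∈ center P) :
    α ^ (p - 1) = 1 ∨ α ^ (p + 1) = 1 := by
  obtain ⟨hZc, hcl⟩ := cube_facts hc hna
  have hpP : IsPGroup p P := IsPGroup.of_card hc
  have hfree' : ∀ i : ℕ, α ^ i ≠ 1 → ∀ y, y⁻¹ * (α ^ i) y ∈ center P → y ∈ center P := by
    intro i hi y hy
    refine free_mod_center hexp (α ^ i) ?_ ?_ (hfree i hi) hy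
    · exact Nat.Coprime.coprime_dvd_left (orderOf_pow_dvd i) hα
    · intro z hz
      clear hi hy
      induction i with
      | zero => rw [pow_zero]; rfl
      | succ n ih => rw [pow_succ, MulAut.mul_apply, hZ z hz, ih]
  letI : CommGroup (P ⧸ center P) :=
    { (inferInstance : Group (P ⧸ center P)) with
      mul_comm := by
        rintro ⟨a⟩ ⟨b⟩
        show ((a * b : P) : P ⧸ center P) = ((b * a : P) : P ⧸ center P)
        rw [QuotientGroup.eq]
        have : (a * b)⁻¹ * (b * a) = ⁅b⁻¹, a⁻¹⁆ := by rw [commutatorElement_def]; group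
        rw [this]; exact hcl _ _ }
  letI : Module (ZMod p) (Additive (P ⧸ center P)) := AddCommGroup.zmodModule (n := p) (by
    intro x
    obtain ⟨y, hy⟩ := QuotientGroup.mk_surjective (Additive.toMul x)
    change Additive.ofMul ((Additive.toMul x) ^ p) = 0
    rw [← hy, ← QuotientGroup.mk_pow, hexp y]
    rfl)
  obtain ⟨β, hβ⟩ : ∃ β : MulAut (P ⧸ center P), β = H24.autQuot (center P) α := ⟨_, rfl⟩
  have hβmk : ∀ x : P, β (x : P ⧸ center P) = ((α x : P) : P ⧸ center P) := by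
    intro x; rw [hβ]; rfl
  have hβmk' : ∀ x : P, β⁻¹ (x : P ⧸ center P) = ((α⁻¹ x : P) : P ⧸ center P) := by
    intro x; rw [hβ, ← map_inv]; rfl
  have hβpow : ∀ (i : ℕ) (x : P), (β ^ i) (x : P ⧸ center P) = (((α ^ i) x : P) : P ⧸ center P) := by
    intro i x; rw [hβ, ← map_pow]; rfl
  have hcoll : ∀ a : P ⧸ center P, ∃ n : ℤ, β a * β⁻¹ a = a ^ n := by
    intro a
    obtain ⟨x, rfl⟩ := QuotientGroup.mk_surjective a
    by_cases hxZ : x ∈ center P
    · refine ⟨0, ?_⟩
      rw [(QuotientGroup.eq_one_iff x).2 hxZ, map_one, map_one, mul_one, zpow_zero]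
    · obtain ⟨K, hK⟩ : ∃ K : Subgroup P, K = centralizer ({x} : Set P) := ⟨_, rfl⟩
      have hKcard : Nat.card K ≤ p * Nat.card (center P) := by
        have hne : K ≠ ⊤ := by
          intro h
          apply hxZ
          rw [mem_center_iff]
          intro y
          have hy : y ∈ K := by rw [h]; exact mem_top y
          rw [hK] at hy
          exact (mem_centralizer_singleton_iff.1 hy)
        obtain ⟨n, hn⟩ := IsPGroup.iff_card.1 (hpP.to_subgroup K)
        have h1 : Nat.card K ∣ Nat.card P := card_subgroup_dvd_card K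
        rw [hn, hc, Nat.pow_dvd_pow_iff_le_right hpF.out.one_lt] at h1
        have h2 : n ≠ 3 := by
          rintro rfl
          apply hne
          rw [← card_eq_iff_eq_top, hn, hc]
        rw [hn, hZc, ← pow_two]
        exact Nat.pow_le_pow_right hpF.out.pos (by omega)
      have hZK : center P ≤ K := by rw [hK]; exact center_le_centralizer _
      have hxK : x ∈ K := by rw [hK, mem_centralizer_singleton_iff]
      have hKe := H22.eq_sup_zpowers (hpP.to_subgroup K) hZK hKcard hxK hxZ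
      have hT : α x * α⁻¹ x ∈ K := by
        rw [hK, mem_centralizer_singleton_iff]
        exact trace_comm hcl α hZ x
      obtain ⟨n, l, hl, e⟩ := H22.exists_zpow_mul hKe (le_normalizer_of_normal) hT
      refine ⟨n, ?_⟩
      rw [hβmk, hβmk', ← QuotientGroup.mk_mul, e, QuotientGroup.mk_mul,
        (QuotientGroup.eq_one_iff l).2 hl, mul_one, QuotientGroup.mk_zpow]
  by_cases hα1 : α ^ (p - 1) = 1
  · exact Or.inl hα1
  · right
    have h8 : ∀ x : P, x⁻¹ * (α ^ (p + 1)) x ∈ center P := by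
      intro x
      obtain ⟨y, hy⟩ : ∃ y, y = x⁻¹ * (α ^ (p + 1)) x := ⟨_, rfl⟩
      rw [← hy]
      apply hfree' (p - 1) hα1
      have h9 := lin_core (p := p) β hcoll (x : P ⧸ center P)
      have h10 : (β ^ (p + 1)) (x : P ⧸ center P) / (x : P ⧸ center P) = (y : P ⧸ center P) := by
        rw [hβpow, hy, QuotientGroup.mk_mul, div_eq_mul_inv, mul_comm, QuotientGroup.mk_inv]
      rw [h10, hβpow] at h9
      rw [← QuotientGroup.eq_one_iff, QuotientGroup.mk_mul, h9, QuotientGroup.mk_inv, inv_mul_cancel]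
    by_contra hα2
    apply hna
    intro a b
    have h12 := hfree' (p + 1) hα2 a (h8 a)
    exact (mem_center_iff.1 h12 b).symm

end Cfsg.Agent.H2
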