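import Cfsg.Agent.S1446
import Cfsg.Agent.H23.Coprime3
import Cfsg.Agent.H21.OBasic
import Cfsg.Agent.H10.PLoc
import Cfsg.Agent.H2.Frat
import Cfsg.Agent.OOT.Rank
import Cfsg.Agent.H23.Coprime5

/-! BG 15.2, the group theoretic core. -/

set_option autoImplicit false

namespace Cfsg.Agent.H2

open Subgroup Cfsg
open scoped commutatorElement

universe u
variable {X : Type u} [Group X] [Finite X]

theorem section_lemma
    {q : ℕ} [hq : Fact q.Prime] {D K Y Z : Subgroup X} (hsol : Group.IsSolvable ↥(D ⊔ K))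
    (hodd : Odd (Nat.card ↥(D ⊔ K))) (hYp : IsPGroup q Y)
    (hDq : (Nat.card D).Coprime q) (hKq : (Nat.card K).Coprime q)
    (hKD : K ≤ normalizer (D : Set X)) (hDK : D ⊓ K = ⊥) (hD1 : D ≠ ⊥) (hK1 : K ≠ ⊥)
    (hfr : ∀ k ∈ K, k ≠ 1 → D ⊓ centralizer ({k} : Set X) = ⊥)
    (hpr : ∀ k ∈ K, k ≠ 1 → Y ⊓ centralizer ({k} : Set X) = Y ⊓ centralizer (K : Set X))
    (hcard : Nat.card ↥(Y ⊓ centralizer (K : Set X)) ∣ q)
    (hY : Y.Normal) (hZ : Z.Normal) (hZY : Z ≤ Y) (hne : Z ≠ Y)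
    (hfix : ∀ y ∈ Y, (∀ d ∈ D, ⁅y, d⁆ ∈ Z) → y ∈ Z) :
    (Nat.card K).Prime ∧ Nat.card Y = Nat.card Z * q ^ Nat.card K ∧
      Nat.card ↥(Y ⊓ centralizer (K : Set X)) = q ∧ Y ⊓ centralizer (K : Set X) ⊓ Z = ⊥ := by
  have hqp := hq.out
  have hZp : IsPGroup q Z := hYp.to_le hZY
  have hcDK : Nat.card (D ⊔ K : Subgroup X) = Nat.card D * Nat.card K :=
    H23.card_sup_of_inf_eq_bot hKD (by rw [inf_comm]; exact hDK)
  have hcopq : (Nat.card (D ⊔ K : Subgroup X)).Coprime q := by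
    rw [hcDK]; exact Nat.Coprime.mul_left hDq hKq
  have hinj : ∀ x ∈ D ⊔ K, x ∈ Z → x = 1 := by
    intro x hx hxZ
    obtain ⟨n, hn⟩ := IsPGroup.iff_card.1 hZp
    have h1 : (D ⊔ K) ⊓ Z = ⊥ := by
      apply H23.inf_eq_bot_of_coprime
      rw [hn]; exact Nat.Coprime.pow_right _ hcopq
    have h2 : x ∈ (D ⊔ K) ⊓ Z := Subgroup.mem_inf.2 ⟨hx, hxZ⟩
    rwa [h1, mem_bot] at h2
  have hDle : D ≤ D ⊔ K := le_sup_left
  have hKle : K ≤ D ⊔ K := le_sup_right
  set π := QuotientGroup.mk' Z with hπ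
  have hker : ∀ x, π x = 1 ↔ x ∈ Z := fun x => QuotientGroup.eq_one_iff x
  have hpi_comm : ∀ x y, π x * π y = π y * π x ↔ ⁅x, y⁆ ∈ Z := by
    intro x y
    rw [← hker, map_commutatorElement, commutatorElement_eq_one_iff_mul_comm]
  have hcopZ : ∀ A : Subgroup X, A ≤ D ⊔ K → (Nat.card A).Coprime (Nat.card Z) := by
    intro A hA
    obtain ⟨n, hn⟩ := IsPGroup.iff_card.1 hZp
    rw [hn]
    exact Nat.Coprime.pow_right _ (Nat.Coprime.coprime_dvd_left (card_dvd_of_le hA) hcopq)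
  have hsZ : ∀ A : Subgroup X, Group.IsSolvable A ∨ Group.IsSolvable Z := fun A =>
    Or.inr (H23.isSolvable_of_isPGroup hZp)
  -- fixed points
  have hfixK : Y.map π ⊓ centralizer ((K.map π : Subgroup (X ⧸ Z)) : Set (X ⧸ Z)) =
      (Y ⊓ centralizer (K : Set X)).map π :=
    (H23.map_inf_centralizer (hcopZ K hKle) (hsZ K) hZY).symm
  have hD1' : D.map π ≠ ⊥ := by
    intro h0
    apply hD1
    rw [eq_bot_iff]
    intro d hd
    have h1 : π d ∈ D.map π := mem_map_of_mem _ hd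
    rw [h0, mem_bot, hker] at h1
    exact hinj d (hDle hd) h1
  have hK1' : K.map π ≠ ⊥ := by
    intro h0
    apply hK1
    rw [eq_bot_iff]
    intro d hd
    have h1 : π d ∈ K.map π := mem_map_of_mem _ hd
    rw [h0, mem_bot, hker] at h1
    exact hinj d (hKle hd) h1
  have hinf : D.map π ⊓ K.map π = ⊥ := by
    rw [eq_bot_iff]
    rintro _ hx
    obtain ⟨⟨d, hd, rfl⟩, ⟨k, hk, hkd⟩⟩ := Subgroup.mem_inf.1 hx
    have h1 : d⁻¹ * k ∈ Z := by
      rw [← hker, map_mul, map_inv, hkd, inv_mul_cancel]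
    have h2 := hinj _ (mul_mem (inv_mem (hDle hd)) (hKle hk)) h1
    have h3 : d = k := (inv_mul_eq_one.1 h2)
    have h4 : d ∈ D ⊓ K := Subgroup.mem_inf.2 ⟨hd, h3 ▸ hk⟩
    rw [hDK, mem_bot] at h4
    rw [h4, map_one]; exact one_mem _
  have hnor : K.map π ≤ normalizer ((D.map π : Subgroup (X ⧸ Z)) : Set (X ⧸ Z)) :=
    (map_mono hKD).trans (le_normalizer_map π)
  have hfrob : ∀ r ∈ K.map π, r ≠ 1 → D.map π ⊓ centralizer ({r} : Set (X ⧸ Z)) = ⊥ := by
    rintro _ ⟨k, hk, rfl⟩ hr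
    rw [eq_bot_iff]
    intro x hx
    obtain ⟨⟨d, hd, rfl⟩, hc⟩ := Subgroup.mem_inf.1 hx
    rw [mem_centralizer_singleton_iff] at hc
    have h1 : ⁅d, k⁆ ∈ Z := (hpi_comm d k).1 hc
    have h2 : ⁅d, k⁆ ∈ D := by
      rw [commutatorElement_def]
      have h3 : k * d⁻¹ * k⁻¹ ∈ D := (mem_normalizer_iff.1 (hKD hk) _).1 (inv_mem hd)
      have h4 := mul_mem hd h3
      rwa [← mul_assoc, ← mul_assoc] at h4
    have h3 := hinj _ (hDle h2) h1
    rw [commutatorElement_eq_one_iff_mul_comm] at h3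
    have hk1 : k ≠ 1 := fun h0 => hr (by rw [h0, map_one])
    have h4 : d ∈ D ⊓ centralizer ({k} : Set X) :=
      Subgroup.mem_inf.2 ⟨hd, mem_centralizer_singleton_iff.2 h3⟩
    rw [hfr k hk hk1, mem_bot] at h4
    rw [h4, map_one]; exact one_mem _
  have hmapsup : D.map π ⊔ K.map π = (D ⊔ K).map π := (map_sup D K π).symm
  have hMp : IsPGroup q (Y.map π) := hYp.map π
  have hM1 : Y.map π ≠ ⊥ := by
    intro h0
    apply hne
    refine le_antisymm hZY ?_
    intro y hy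
    have h1 : π y ∈ Y.map π := mem_map_of_mem _ hy
    rw [h0, mem_bot, hker] at h1
    exact h1
  have hcop : (Nat.card ↥(D.map π ⊔ K.map π)).Coprime (Nat.card (Y.map π)) := by
    obtain ⟨n, hn⟩ := IsPGroup.iff_card.1 hMp
    rw [hn, hmapsup]
    exact Nat.Coprime.pow_right _ (Nat.Coprime.coprime_dvd_left (card_map_dvd _ _) hcopq)
  have hCK : Y.map π ⊓ centralizer ((D.map π : Subgroup (X ⧸ Z)) : Set (X ⧸ Z)) = ⊥ := by
    rw [eq_bot_iff]
    intro x hx
    obtain ⟨⟨y, hy, rfl⟩, hc⟩ := Subgroup.mem_inf.1 hx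
    rw [mem_centralizer_iff] at hc
    have h1 : y ∈ Z := hfix y hy (fun d hd => (hpi_comm y d).1 (hc (π d) (mem_map_of_mem _ hd)).symm)
    rw [mem_bot, hker]; exact h1
  have hpr' : ∀ x ∈ K.map π, x ≠ 1 → Y.map π ⊓ centralizer ({x} : Set (X ⧸ Z)) =
      Y.map π ⊓ centralizer ((K.map π : Subgroup (X ⧸ Z)) : Set (X ⧸ Z)) := by
    rintro _ ⟨k, hk, rfl⟩ hx
    have hk1 : k ≠ 1 := fun h0 => hx (by rw [h0]; exact map_one _)
    refine le_antisymm ?_ ?_
    · rintro z hz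
      obtain ⟨h1, h2⟩ := Subgroup.mem_inf.1 hz
      refine Subgroup.mem_inf.2 ⟨h1, ?_⟩
      have h3 := H23.map_inf_centralizer (A := zpowers k) (G := Y) (N := Z)
        (hcopZ _ (by rw [zpowers_le]; exact hKle hk)) (hsZ _) hZY
      have h4 : z ∈ Y.map π ⊓ centralizer (((zpowers k).map π : Subgroup (X ⧸ Z)) : Set (X ⧸ Z)) := by
        refine Subgroup.mem_inf.2 ⟨h1, ?_⟩
        rw [MonoidHom.map_zpowers, H21.cent_zpowers]
        exact h2
      rw [← h3] at h4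
      obtain ⟨y, hy, rfl⟩ := h4
      obtain ⟨hy1, hy2⟩ := Subgroup.mem_inf.1 hy
      have h5 : y ∈ Y ⊓ centralizer ({k} : Set X) := by
        refine Subgroup.mem_inf.2 ⟨hy1, ?_⟩
        rw [mem_centralizer_singleton_iff]
        exact (mem_centralizer_iff.1 hy2 k (mem_zpowers k)).symm
      rw [hpr k hk hk1] at h5
      rw [mem_centralizer_iff]
      rintro _ ⟨k', hk', rfl⟩
      rw [← map_mul, ← map_mul, mem_centralizer_iff.1 (Subgroup.mem_inf.1 h5).2 k' hk']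
    · refine inf_le_inf_left _ ?_
      apply centralizer_le
      rw [Set.singleton_subset_iff]
      exact mem_map_of_mem _ hk
  have hoddq : Odd (Nat.card ↥(D.map π ⊔ K.map π)) := by
    rw [hmapsup]
    exact hodd.of_dvd_nat (card_map_dvd _ _)
  have hsolq : Group.IsSolvable ↥(D.map π ⊔ K.map π) := by
    rw [hmapsup]
    exact Group.isSolvable_of_surjective (π.subgroupMap_surjective (D ⊔ K))
  have key := S1446.result (D.map π) (K.map π) (Y.map π) hD1' hK1' hinf hnor hfrob hsolq hoddq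
    hM1 hMp.isNilpotent (by rw [normalizer_eq_top_iff.2 (hY.map _ (QuotientGroup.mk'_surjective Z))]; exact le_top)
    (by rw [normalizer_eq_top_iff.2 (hY.map _ (QuotientGroup.mk'_surjective Z))]; exact le_top)
    hcop hCK hpr'
  obtain ⟨k1, k2, -⟩ := key
  have hcardmap : ∀ A : Subgroup X, Nat.card (A.map π) = Z.relIndex A := by
    intro A
    rw [← relIndex_ker, hπ, QuotientGroup.ker_mk']
  have hKcard : Nat.card (K.map π) = Nat.card K := by
    rw [hcardmap, ← inf_relIndex_right]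
    have h1 : Z ⊓ K = ⊥ := by
      rw [eq_bot_iff]
      intro x hx
      exact hinj x (hKle (Subgroup.mem_inf.1 hx).2) (Subgroup.mem_inf.1 hx).1
    rw [h1, relIndex_bot_left]
  rw [hKcard] at k1 k2
  rw [hfixK] at k2
  set C := Y ⊓ centralizer (K : Set X) with hC
  have hnt : C.map π ≠ ⊥ := by
    intro h0
    rw [h0, card_bot, one_pow] at k2
    exact hM1 (card_eq_one.1 k2)
  have hC1 : C ≠ ⊥ := by
    intro h0
    rw [h0, Subgroup.map_bot] at hnt; exact hnt rfl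
  have hcard' : Nat.card C = q := by
    rcases (Nat.dvd_prime hqp).1 hcard with h | h
    · exact absurd (card_eq_one.1 h) hC1
    · exact h
  have hprime : ∀ A : Subgroup X, A ≤ C → A = ⊥ ∨ A = C := by
    intro A hA
    have h1 : Nat.card A ∣ q := by rw [← hcard']; exact card_dvd_of_le hA
    rcases (Nat.dvd_prime hqp).1 h1 with h2 | h2
    · left; exact card_eq_one.1 h2
    · right; exact eq_of_le_of_card_ge hA (by rw [hcard', h2])
  have hCZ : C ⊓ Z = ⊥ := by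
    rcases hprime _ (inf_le_left : C ⊓ Z ≤ C) with h | h
    · exact h
    · exfalso
      apply hnt
      rw [eq_bot_iff]
      rintro _ ⟨c, hc, rfl⟩
      rw [mem_bot, hker]
      exact (inf_eq_left.1 h) hc
  have hCc : Nat.card (C.map π) = q := by
    rw [hcardmap, ← inf_relIndex_right, inf_comm, hCZ, relIndex_bot_left, hcard']
  rw [hCc, hcardmap] at k2
  refine ⟨k1, ?_, hcard', hCZ⟩
  rw [← H1.card_mul_relIndex hZY, k2]

/-- the same for invariant sections. -/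
theorem section_lemma'
    {q : ℕ} [hq : Fact q.Prime] {D K Y Z : Subgroup X} (hsol : Group.IsSolvable ↥(D ⊔ K))
    (hodd : Odd (Nat.card ↥(D ⊔ K))) (hYp : IsPGroup q Y)
    (hDq : (Nat.card D).Coprime q) (hKq : (Nat.card K).Coprime q)
    (hKD : K ≤ normalizer (D : Set X)) (hDK : D ⊓ K = ⊥) (hD1 : D ≠ ⊥) (hK1 : K ≠ ⊥)
    (hfr : ∀ k ∈ K, k ≠ 1 → D ⊓ centralizer ({k} : Set X) = ⊥)
    (hpr : ∀ k ∈ K, k ≠ 1 → Y ⊓ centralizer ({k} : Set X) = Y ⊓ centralizer (K : Set X))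
    (hcard : Nat.card ↥(Y ⊓ centralizer (K : Set X)) ∣ q)
    (hDY : D ≤ normalizer (Y : Set X)) (hKY : K ≤ normalizer (Y : Set X))
    (hDZ : D ≤ normalizer (Z : Set X)) (hKZ : K ≤ normalizer (Z : Set X))
    (hYZ : Y ≤ normalizer (Z : Set X)) (hZY : Z ≤ Y) (hne : Z ≠ Y)
    (hfix : ∀ y ∈ Y, (∀ d ∈ D, ⁅y, d⁆ ∈ Z) → y ∈ Z) :
    (Nat.card K).Prime ∧ Nat.card Y = Nat.card Z * q ^ Nat.card K ∧
      Nat.card ↥(Y ⊓ centralizer (K : Set X)) = q ∧ Y ⊓ centralizer (K : Set X) ⊓ Z = ⊥ := by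
  obtain ⟨S, hS⟩ : ∃ S : Subgroup X, S = Y ⊔ (D ⊔ K) := ⟨_, rfl⟩
  have hYS : Y ≤ S := by rw [hS]; exact le_sup_left
  have hDS : D ≤ S := by rw [hS]; exact le_sup_left.trans le_sup_right
  have hKS : K ≤ S := by rw [hS]; exact le_sup_right.trans le_sup_right
  have hZS : Z ≤ S := hZY.trans hYS
  have hSY : S ≤ normalizer (Y : Set X) := by rw [hS]; exact sup_le le_normalizer (sup_le hDY hKY)
  have hSZ : S ≤ normalizer (Z : Set X) := by rw [hS]; exact sup_le hYZ (sup_le hDZ hKZ)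
  have hcK : (Y.subgroupOf S ⊓ centralizer ((K.subgroupOf S : Subgroup S) : Set S)) =
      (Y ⊓ centralizer (K : Set X)).subgroupOf S := by
    rw [H10.centralizer_subgroupOf hKS]; rfl
  have hinfS : Y ⊓ centralizer (K : Set X) ≤ S := inf_le_left.trans hYS
  have hcs : ∀ k : S, ∀ A : Subgroup X, A.subgroupOf S ⊓ centralizer ({k} : Set S) =
      (A ⊓ centralizer ({(k : X)} : Set X)).subgroupOf S := by
    intro k A
    ext s
    rw [mem_inf, mem_centralizer_singleton_iff, mem_subgroupOf, mem_subgroupOf, mem_inf,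
      mem_centralizer_singleton_iff, Subtype.ext_iff]
    rfl
  have key := section_lemma (X := S) (q := q) (D := D.subgroupOf S) (K := K.subgroupOf S)
    (Y := Y.subgroupOf S) (Z := Z.subgroupOf S)
    (by
      rw [← subgroupOf_sup hDS hKS]
      exact Group.isSolvable_of_surjective (f := (subgroupOfEquivOfLe (sup_le hDS hKS)).symm.toMonoidHom)
        (subgroupOfEquivOfLe (sup_le hDS hKS)).symm.surjective)
    (by
      rw [← subgroupOf_sup hDS hKS, H1.card_subgroupOf (sup_le hDS hKS)]; exact hodd)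
    ((hYp.comap_of_injective _ S.subtype_injective : IsPGroup q (Y.comap S.subtype)))
    (by rw [H1.card_subgroupOf hDS]; exact hDq) (by rw [H1.card_subgroupOf hKS]; exact hKq)
    (by
      intro k hk
      rw [mem_normalizer_iff]
      intro x
      exact mem_normalizer_iff.1 (hKD hk) x)
    (by
      have e : D.subgroupOf S ⊓ K.subgroupOf S = (D ⊓ K).subgroupOf S := rfl
      rw [e, hDK, bot_subgroupOf])
    (by
      intro h0
      apply hD1
      rw [subgroupOf_eq_bot, disjoint_iff, inf_eq_left.2 hDS] at h0; exact h0)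
    (by
      intro h0
      apply hK1
      rw [subgroupOf_eq_bot, disjoint_iff, inf_eq_left.2 hKS] at h0; exact h0)
    (by
      intro k hk hk1
      rw [hcs, hfr k hk (fun h => hk1 (Subtype.ext h)), bot_subgroupOf])
    (by
      intro k hk hk1
      rw [hcs, hcK, hpr k hk (fun h => hk1 (Subtype.ext h))])
    (by rw [hcK, H1.card_subgroupOf hinfS]; exact hcard)
    ((normal_subgroupOf_iff_le_normalizer hYS).2 hSY) ((normal_subgroupOf_iff_le_normalizer hZS).2 hSZ)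
    (fun x hx => hZY hx)
    (by
      intro h0
      apply hne
      rw [← map_subgroupOf_eq_of_le hZS, h0, map_subgroupOf_eq_of_le hYS])
    (by
      intro y hy hd
      exact hfix y hy (fun d hdD => hd ⟨d, hDS hdD⟩ hdD))
  obtain ⟨k1, k2, k3, k4⟩ := key
  rw [hcK] at k3 k4
  rw [H1.card_subgroupOf hKS] at k1 k2
  rw [H1.card_subgroupOf hYS, H1.card_subgroupOf hZS] at k2
  rw [H1.card_subgroupOf hinfS] at k3
  refine ⟨k1, k2, k3, ?_⟩
  have e : (Y ⊓ centralizer (K : Set X)).subgroupOf S ⊓ Z.subgroupOf S =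
    (Y ⊓ centralizer (K : Set X) ⊓ Z).subgroupOf S := rfl
  rw [e, subgroupOf_eq_bot, disjoint_iff,
    inf_eq_left.2 (inf_le_left.trans hinfS : Y ⊓ centralizer (K : Set X) ⊓ Z ≤ S)] at k4
  exact k4

/-- fixed points modulo `Z`. -/
theorem coprime_fix {L D Z : Subgroup X} (hn : D ≤ normalizer (L : Set X))
    (hcop : (Nat.card D).Coprime (Nat.card L)) (hs : Group.IsSolvable D ∨ Group.IsSolvable L)
    (hLD : ⁅L, D⁆ = L) (hDZ : D ≤ normalizer (Z : Set X)) (hLZ : L ≤ normalizer (Z : Set X))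
    (h1 : ⁅L, L⁆ ≤ Z) (h2 : Z ≤ L) :
    ∀ y ∈ L, (∀ d ∈ D, ⁅y, d⁆ ∈ Z) → y ∈ Z := by
  intro y hy hyd
  have h4 : ∀ a b d : X, a ∈ L → b ∈ L → d ∈ D → ⁅a, d⁆ ∈ Z → ⁅b, d⁆ ∈ Z → ⁅a * b, d⁆ ∈ Z := by
    intro a b d ha hb hd h5 h6
    have e : ⁅a * b, d⁆ = (a * ⁅b, d⁆ * a⁻¹) * ⁅a, d⁆ := by
      simp only [commutatorElement_def]; group
    rw [e]
    exact mul_mem ((mem_normalizer_iff.1 (hLZ ha) _).1 h6) h5
  let U : Subgroup X :=
    { carrier := {x | x ∈ L ∧ ∀ d ∈ D, ⁅x, d⁆ ∈ Z}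
      one_mem' := ⟨one_mem _, fun d _ => by rw [commutatorElement_one_left]; exact one_mem _⟩
      mul_mem' := fun {a b} ha hb => ⟨mul_mem ha.1 hb.1, fun d hd => h4 a b d ha.1 hb.1 hd (ha.2 d hd) (hb.2 d hd)⟩
      inv_mem' := fun {a} ha => ⟨inv_mem ha.1, fun d hd => by
        have e : ⁅a⁻¹, d⁆ = a⁻¹ * ⁅a, d⁆⁻¹ * a⁻¹⁻¹ := by
          simp only [commutatorElement_def]; group
        rw [e]
        exact (mem_normalizer_iff.1 (hLZ (inv_mem ha.1)) _).1 (inv_mem (ha.2 d hd))⟩ }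
  have hU : ∀ x, x ∈ U ↔ x ∈ L ∧ ∀ d ∈ D, ⁅x, d⁆ ∈ Z := fun x => Iff.rfl
  have h3 : U = Z := by
    refine H23.eq_of_commutator_le_of_abelian_quotient hn hcop hs hLD h1 hDZ ?_ ?_ ?_
    · intro z hz
      rw [hU]
      refine ⟨h2 hz, fun d hd => ?_⟩
      rw [commutatorElement_def]
      have := mul_mem hz ((mem_normalizer_iff.1 (hDZ hd) _).1 (inv_mem hz))
      rwa [← mul_assoc, ← mul_assoc] at this
    · intro x hx; exact ((hU x).1 hx).1
    · rw [commutator_le]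
      intro x hx d hd
      exact ((hU x).1 hx).2 d hd
  rw [← h3, hU]
  exact ⟨hy, hyd⟩

theorem exists_frat {q : ℕ} [hq : Fact q.Prime] {A : Subgroup X} (hA : IsPGroup q A) (h1 : A ≠ ⊥) :
    ∃ Φ : Subgroup X, normalizer (A : Set X) ≤ normalizer (Φ : Set X) ∧ Φ ≤ A ∧ Φ ≠ A ∧
      ⁅A, A⁆ ≤ Φ ∧ (∀ a ∈ A, a ^ q ∈ Φ) ∧ ∀ B : Subgroup X, B ≤ A → A ≤ B ⊔ Φ → B = A := by
  have h5 : ∀ B : Subgroup X, B ≤ A → A ≤ B ⊔ (frattini A).map A.subtype → B = A :=
    fun B hB h => H23.eq_of_sup_frattini_map hB h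
  refine ⟨(frattini A).map A.subtype, H23.normalizer_le_normalizer_map _, map_subtype_le _, ?_, ?_, ?_, h5⟩
  · intro h0
    have := h5 ⊥ bot_le (by rw [h0]; exact le_sup_right)
    exact h1 this.symm
  · rw [← map_subtype_commutator]
    exact map_mono (commutator_le_frattini hA)
  · intro a ha
    exact ⟨(⟨a, ha⟩ : A) ^ q, pow_mem_frattini hA _, rfl⟩

theorem mem_normalizer_comm {A B : Subgroup X} {x : X} (hA : x ∈ normalizer (A : Set X))
    (hB : x ∈ normalizer (B : Set X)) : x ∈ normalizer ((⁅A, B⁆ : Subgroup X) : Set X) := by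
  rw [H1.mem_normalizer_iff_conj_smul, H23.conj_smul_commutator, H1.mem_normalizer_iff_conj_smul.mp hA,
    H1.mem_normalizer_iff_conj_smul.mp hB]

theorem le_normalizer_inf' {A B C : Subgroup X} (h1 : C ≤ normalizer (A : Set X))
    (h2 : C ≤ normalizer (B : Set X)) : C ≤ normalizer ((A ⊓ B : Subgroup X) : Set X) := by
  intro c hc
  rw [mem_normalizer_iff]
  intro x
  rw [mem_inf, mem_inf, mem_normalizer_iff.1 (h1 hc) x, mem_normalizer_iff.1 (h2 hc) x]

theorem le_normalizer_sup' {A B C : Subgroup X} (h1 : C ≤ normalizer (A : Set X))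
    (h2 : C ≤ normalizer (B : Set X)) : C ≤ normalizer ((A ⊔ B : Subgroup X) : Set X) := by
  intro c hc
  rw [H1.mem_normalizer_iff_conj_smul, Subgroup.smul_sup, H1.mem_normalizer_iff_conj_smul.mp (h1 hc),
    H1.mem_normalizer_iff_conj_smul.mp (h2 hc)]

theorem le_normalizer_cent {A C : Subgroup X} (h1 : C ≤ normalizer (A : Set X)) :
    C ≤ normalizer ((centralizer (A : Set X) : Subgroup X) : Set X) :=
  h1.trans (OOT.normalizer_le_normalizer_centralizer A)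

theorem relIndex_sup_nz {A C : Subgroup X} (h : A ≤ normalizer (C : Set X)) :
    C.relIndex (C ⊔ A) = C.relIndex A := by
  have hC : C ≤ normalizer (C : Set X) := le_normalizer
  haveI : (C.subgroupOf (normalizer (C : Set X))).Normal := normal_in_normalizer
  rw [← relIndex_subgroupOf (sup_le hC h), subgroupOf_sup hC h, relIndex_sup_left,
    relIndex_subgroupOf h]

/-- The structure of a `q`-group `Q` on which the Frobenius type group `DK` acts. -/
theorem core152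
    {q : ℕ} [hq : Fact q.Prime] {Q D K : Subgroup X} (hsol : Group.IsSolvable ↥(D ⊔ K))
    (hodd : Odd (Nat.card ↥(D ⊔ K))) (hQ : IsPGroup q Q)
    (hDQn : D ≤ normalizer (Q : Set X)) (hKQn : K ≤ normalizer (Q : Set X))
    (hDq : (Nat.card D).Coprime q) (hKq : (Nat.card K).Coprime q)
    (hKD : K ≤ normalizer (D : Set X)) (hDK : D ⊓ K = ⊥) (hK1 : K ≠ ⊥)
    (hfr : ∀ k ∈ K, k ≠ 1 → D ⊓ centralizer ({k} : Set X) = ⊥)
    (hpr : ∀ k ∈ K, k ≠ 1 → Q ⊓ centralizer ({k} : Set X) = Q ⊓ centralizer (K : Set X))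
    (hcard : Nat.card ↥(Q ⊓ centralizer (K : Set X)) = q)
    (hDQ : ¬ D ≤ centralizer (Q : Set X)) :
    (Nat.card K).Prime ∧ Q ≤ normalizer ((Q ⊓ centralizer (D : Set X) : Subgroup X) : Set X) ∧
      D ≤ normalizer ((Q ⊓ centralizer (D : Set X) : Subgroup X) : Set X) ∧
      K ≤ normalizer ((Q ⊓ centralizer (D : Set X) : Subgroup X) : Set X) ∧
      Q ⊓ centralizer (D : Set X) < Q ∧
      Nat.card Q = Nat.card ↥(Q ⊓ centralizer (D : Set X)) * q ^ Nat.card K ∧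
      (∀ a ∈ Q, ∀ b ∈ Q, a ^ q ∈ Q ⊓ centralizer (D : Set X) ∧
        a * b * a⁻¹ * b⁻¹ ∈ Q ⊓ centralizer (D : Set X)) ∧
      ∀ N : Subgroup X, Q ⊓ centralizer (D : Set X) < N → N < Q →
        D ≤ normalizer (N : Set X) → K ≤ normalizer (N : Set X) → False := by
  have hqp := hq.out
  have hD1 : D ≠ ⊥ := by
    rintro rfl
    exact hDQ bot_le
  have hcopA : ∀ A : Subgroup X, A ≤ Q → (Nat.card D).Coprime (Nat.card A) := fun A hA =>
    H23.card_coprime_of_isPGroup (hQ.to_le hA) hDq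
  have hsA : ∀ A : Subgroup X, A ≤ Q → Group.IsSolvable D ∨ Group.IsSolvable A := fun A hA =>
    Or.inr (H23.isSolvable_of_isPGroup (hQ.to_le hA))
  -- the section lemma for sections of `Q`
  have hprA : ∀ A : Subgroup X, A ≤ Q → ∀ k ∈ K, k ≠ 1 → A ⊓ centralizer ({k} : Set X) =
      A ⊓ centralizer (K : Set X) := by
    intro A hA k hk hk1
    have e : ∀ B : Subgroup X, A ⊓ B = A ⊓ (Q ⊓ B) := fun B => by rw [← inf_assoc, inf_eq_left.2 hA]
    rw [e, hpr k hk hk1, ← e]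
  have hsec : ∀ Y Z : Subgroup X, Y ≤ Q → D ≤ normalizer (Y : Set X) → K ≤ normalizer (Y : Set X) →
      D ≤ normalizer (Z : Set X) → K ≤ normalizer (Z : Set X) → Y ≤ normalizer (Z : Set X) →
      Z ≤ Y → Z ≠ Y → (∀ y ∈ Y, (∀ d ∈ D, ⁅y, d⁆ ∈ Z) → y ∈ Z) →
      (Nat.card K).Prime ∧ Nat.card Y = Nat.card Z * q ^ Nat.card K ∧
      Q ⊓ centralizer (K : Set X) ≤ Y ∧ Q ⊓ centralizer (K : Set X) ⊓ Z = ⊥ := by
    intro Y Z hYQ h1 h2 h3 h4 h5 h6 h7 h8
    have hle : Y ⊓ centralizer (K : Set X) ≤ Q ⊓ centralizer (K : Set X) := inf_le_inf_right _ hYQ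
    obtain ⟨k1, k2, k3, k4⟩ := section_lemma' hsol hodd (hQ.to_le hYQ) hDq hKq hKD hDK hD1 hK1 hfr
      (hprA Y hYQ) (by rw [← hcard]; exact card_dvd_of_le hle) h1 h2 h3 h4 h5 h6 h7 h8
    have he : Y ⊓ centralizer (K : Set X) = Q ⊓ centralizer (K : Set X) :=
      eq_of_le_of_card_ge hle (by rw [hcard, k3])
    rw [he] at k4
    exact ⟨k1, k2, by rw [← he]; exact inf_le_left, k4⟩
  obtain ⟨L, hL⟩ : ∃ L : Subgroup X, L = ⁅Q, D⁆ := ⟨_, rfl⟩
  have hLQ : L ≤ Q := by rw [hL]; exact H23.commutator_le_of_le_normalizer hDQn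
  have hL1 : L ≠ ⊥ := by
    intro h0
    rw [hL, commutator_eq_bot_iff_le_centralizer] at h0
    exact hDQ (le_centralizer_iff.1 h0)
  have hDL : D ≤ normalizer (L : Set X) := by rw [hL]; exact normalizer_commutator_ge_right _ _
  have hQL : Q ≤ normalizer (L : Set X) := by rw [hL]; exact normalizer_commutator_ge_left _ _
  have hKL : K ≤ normalizer (L : Set X) := by
    rw [hL]; exact fun k hk => mem_normalizer_comm (hKQn hk) (hKD hk)
  have hLD : ⁅L, D⁆ = L := by rw [hL]; exact H23.commutator_commutator_eq hDQn (hcopA Q le_rfl)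
  have hLp : IsPGroup q L := hQ.to_le hLQ
  obtain ⟨Φ, Φn, Φle, Φne, Φc, Φp, Φg⟩ := exists_frat hLp hL1
  have hΦQ : Φ ≤ Q := Φle.trans hLQ
  have hLΦ : L ≤ normalizer (Φ : Set X) := le_normalizer.trans Φn
  have hfixL := coprime_fix hDL (hcopA L hLQ) (hsA L hLQ) hLD (hDL.trans Φn) hLΦ Φc Φle
  obtain ⟨hp, hc1, hc2, hc3⟩ := hsec L Φ hLQ hDL hKL (hDL.trans Φn) (hKL.trans Φn) hLΦ Φle Φne hfixL
  -- `D` centralizes `Φ`
  have hΦD : Φ ≤ centralizer (D : Set X) := by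
    by_contra hcon
    obtain ⟨L1, hL1e⟩ : ∃ L1 : Subgroup X, L1 = ⁅Φ, D⁆ := ⟨_, rfl⟩
    have a1 : L1 ≤ Φ := by rw [hL1e]; exact H23.commutator_le_of_le_normalizer (hDL.trans Φn)
    have a2 : L1 ≠ ⊥ := by
      intro h0
      rw [hL1e, commutator_eq_bot_iff_le_centralizer] at h0
      exact hcon h0
    have a3 : D ≤ normalizer (L1 : Set X) := by rw [hL1e]; exact normalizer_commutator_ge_right _ _
    have a4 : K ≤ normalizer (L1 : Set X) := by
      rw [hL1e]; exact fun k hk => mem_normalizer_comm (Φn (hKL hk)) (hKD hk)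
    have a5 : ⁅L1, D⁆ = L1 := by
      rw [hL1e]; exact H23.commutator_commutator_eq (hDL.trans Φn) (hcopA Φ hΦQ)
    have a6 : L1 ≤ Q := a1.trans hΦQ
    obtain ⟨Ψ, Ψn, Ψle, Ψne, Ψc, Ψp, Ψg⟩ := exists_frat (hQ.to_le a6) a2
    have b1 : L1 ≤ normalizer (Ψ : Set X) := le_normalizer.trans Ψn
    have b2 := coprime_fix a3 (hcopA L1 a6) (hsA L1 a6) a5 (a3.trans Ψn) b1 Ψc Ψle
    obtain ⟨-, -, c1, -⟩ := hsec L1 Ψ a6 a3 a4 (a3.trans Ψn) (a4.trans Ψn) b1 Ψle Ψne b2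
    have c2 : Q ⊓ centralizer (K : Set X) ⊓ Φ = Q ⊓ centralizer (K : Set X) :=
      inf_eq_left.2 (c1.trans a1)
    rw [c2] at hc3
    rw [hc3, card_bot] at hcard
    exact hqp.one_lt.ne hcard
  obtain ⟨C, hC⟩ : ∃ C : Subgroup X, C = Q ⊓ centralizer (D : Set X) := ⟨_, rfl⟩
  rw [← hC]
  have hCQ : C ≤ Q := by rw [hC]; exact inf_le_left
  have hCD : C ≤ centralizer (D : Set X) := by rw [hC]; exact inf_le_right
  have hDC : D ≤ normalizer (C : Set X) :=
    (le_centralizer_iff.1 hCD).trans (H21.cent_le_nz C)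
  have hKC : K ≤ normalizer (C : Set X) := by
    rw [hC]; exact le_normalizer_inf' hKQn (le_normalizer_cent hKD)
  have hLC : L ⊔ C = Q := by
    rw [hL, hC]; exact H23.commutator_sup_centralizer hDQn (hcopA Q le_rfl) (hsA Q le_rfl)
  have hΦC : Φ ≤ C := by rw [hC]; exact le_inf hΦQ hΦD
  have hLinfC : L ⊓ C = Φ := by
    refine le_antisymm ?_ (le_inf Φle hΦC)
    intro x hx
    obtain ⟨h1, h2⟩ := Subgroup.mem_inf.1 hx
    apply hfixL x h1
    intro d hd
    have h3 : ⁅x, d⁆ = 1 := by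
      rw [commutatorElement_eq_one_iff_mul_comm]
      exact (mem_centralizer_iff.1 (hCD h2) d hd).symm
    rw [h3]; exact one_mem _
  -- `[L, C] ≤ Φ`
  have hCL : C ≤ normalizer (L : Set X) := hCQ.trans hQL
  have hLC1 : ⁅L, C⁆ ≤ Φ := by
    obtain ⟨W, hW⟩ : ∃ W : Subgroup X, W = ⁅L, C⁆ ⊔ Φ := ⟨_, rfl⟩
    have hcle : ⁅L, C⁆ ≤ L := H23.commutator_le_of_le_normalizer hCL
    have w1 : W ≤ L := by rw [hW]; exact sup_le hcle Φle
    by_cases hWΦ : Φ = W
    · rw [hWΦ, hW]; exact le_sup_left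
    · exfalso
      have w2 : D ≤ normalizer (W : Set X) := by
        rw [hW]; exact le_normalizer_sup' (fun d hd => mem_normalizer_comm (hDL hd) (hDC hd)) (hDL.trans Φn)
      have w3 : K ≤ normalizer (W : Set X) := by
        rw [hW]; exact le_normalizer_sup' (fun d hd => mem_normalizer_comm (hKL hd) (hKC hd)) (hKL.trans Φn)
      have w4 : Φ ≤ W := by rw [hW]; exact le_sup_right
      obtain ⟨-, w5, -, -⟩ := hsec W Φ (w1.trans hLQ) w2 w3 (hDL.trans Φn) (hKL.trans Φn) (w1.trans hLΦ) w4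
        hWΦ (fun y hy => hfixL y (w1 hy))
      have w6 : W = L := eq_of_le_of_card_ge w1 (by rw [w5, hc1])
      have w7 : ⁅L, C⁆ = L := Φg _ hcle (by rw [← hW, w6])
      exact (H23.commutator_lt_of_isPGroup hLp (hQ.to_le hCQ) hCL hL1).ne w7
  -- `[L, C] = 1`
  have hLC2 : ⁅L, C⁆ = ⊥ := by
    have h1 : ⁅⁅C, D⁆, L⁆ = ⊥ := by
      rw [commutator_eq_bot_iff_le_centralizer.2 hCD, commutator_bot_left]
    have h2 : ⁅⁅L, C⁆, D⁆ = ⊥ := by
      rw [commutator_eq_bot_iff_le_centralizer]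
      exact hLC1.trans hΦD
    have h2' : ⁅⁅D, L⁆, C⁆ = ⊥ := by
      apply commutator_commutator_eq_bot_of_rotate
      · exact h2
      · exact h1
    rwa [commutator_comm D L, hLD] at h2'
  have hLcC : L ≤ centralizer (C : Set X) := commutator_eq_bot_iff_le_centralizer.1 hLC2
  have hQC : Q ≤ normalizer (C : Set X) := by
    rw [← hLC]; exact sup_le (hLcC.trans (H21.cent_le_nz C)) le_normalizer
  have hmem : ∀ x ∈ Q, ∃ l ∈ L, ∃ c ∈ C, x = l * c ∧ l * c = c * l := by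
    intro x hx
    rw [← hLC] at hx
    obtain ⟨l, hl, c, hc, rfl⟩ := (H23.mem_sup_iff_of_le_normalizer hCL).1 hx
    exact ⟨l, hl, c, hc, rfl, (mem_centralizer_iff.1 (hLcC hl) c hc).symm⟩
  have hcC : Nat.card Q = Nat.card C * q ^ Nat.card K := by
    have h1 : Nat.card Q = Nat.card C * C.relIndex Q := (H1.card_mul_relIndex hCQ).symm
    have h2 : C.relIndex Q = C.relIndex L := by
      rw [← hLC, sup_comm]
      exact relIndex_sup_nz (hLcC.trans (H21.cent_le_nz C))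
    have h3 : C.relIndex L = Φ.relIndex L := by
      rw [← inf_relIndex_right, inf_comm, hLinfC]
    have h4 : Φ.relIndex L = q ^ Nat.card K := by
      have := H1.card_mul_relIndex Φle
      rw [hc1] at this
      exact Nat.eq_of_mul_eq_mul_left Nat.card_pos this
    rw [h1, h2, h3, h4]
  refine ⟨hp, hQC, hDC, hKC, ?_, hcC, ?_, ?_⟩
  · refine lt_of_le_of_ne hCQ ?_
    intro h0
    rw [h0] at hcC
    have h1 : 1 < q ^ Nat.card K := Nat.one_lt_pow Nat.card_pos.ne' hqp.one_lt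
    have h2 : 0 < Nat.card Q := Nat.card_pos
    nlinarith
  · intro a ha b hb
    obtain ⟨l, hl, c, hc, rfl, hlc⟩ := hmem a ha
    obtain ⟨l', hl', c', hc', rfl, hlc'⟩ := hmem b hb
    constructor
    · have h1 : Commute l c := hlc
      rw [h1.mul_pow]
      exact mul_mem (hΦC (Φp l hl)) (pow_mem hc q)
    · have k1 : Commute l c := hlc
      have k2 : Commute l' c' := hlc'
      have k3 : Commute l c' := (mem_centralizer_iff.1 (hLcC hl) c' hc').symm
      have k4 : Commute l' c := (mem_centralizer_iff.1 (hLcC hl') c hc).symm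
      have k5 : Commute l (c * c' * c⁻¹ * c'⁻¹) :=
        ((k1.mul_right k3).mul_right k1.inv_right).mul_right k3.inv_right
      have k6 : Commute l' (c * c' * c⁻¹ * c'⁻¹) :=
        ((k4.mul_right k2).mul_right k4.inv_right).mul_right k2.inv_right
      have e : l * c * (l' * c') * (l * c)⁻¹ * (l' * c')⁻¹ = (l * l' * l⁻¹ * l'⁻¹) * (c * c' * c⁻¹ * c'⁻¹) := by
        calc l * c * (l' * c') * (l * c)⁻¹ * (l' * c')⁻¹
            = l * (c * l') * c' * c⁻¹ * (l⁻¹ * c'⁻¹) * l'⁻¹ := by group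
          _ = l * (l' * c) * c' * c⁻¹ * (c'⁻¹ * l⁻¹) * l'⁻¹ := by
              rw [k4.eq, (k3.inv_left.inv_right).eq]
          _ = l * l' * ((c * c' * c⁻¹ * c'⁻¹) * (l⁻¹ * l'⁻¹)) := by group
          _ = l * l' * ((l⁻¹ * l'⁻¹) * (c * c' * c⁻¹ * c'⁻¹)) := by
              rw [(k5.inv_left.mul_left k6.inv_left).eq]
          _ = (l * l' * l⁻¹ * l'⁻¹) * (c * c' * c⁻¹ * c'⁻¹) := by group
      rw [e]
      refine mul_mem (hΦC ?_) (mul_mem (mul_mem (mul_mem hc hc') (inv_mem hc)) (inv_mem hc'))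
      have := commutator_mem_commutator hl hl'
      exact Φc this
  · intro N h1 h2 h3 h4
    obtain ⟨-, h5, -, -⟩ := hsec N C h2.le h3 h4 hDC hKC (h2.le.trans hQC) h1.le h1.ne (by
      intro y hy hyd
      obtain ⟨l, hl, c, hc, rfl, hlc⟩ := hmem y (h2.le hy)
      refine mul_mem (hΦC (hfixL l hl ?_)) hc
      intro d hd
      have h6 := hyd d hd
      have h7 : Commute d c := (mem_centralizer_iff.1 (hCD hc) d hd)
      have e : ⁅l * c, d⁆ = ⁅l, d⁆ := by
        rw [commutatorElement_def, commutatorElement_def]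
        calc l * c * d * (l * c)⁻¹ * d⁻¹ = l * (c * d) * c⁻¹ * l⁻¹ * d⁻¹ := by group
          _ = l * (d * c) * c⁻¹ * l⁻¹ * d⁻¹ := by rw [h7.eq]
          _ = l * d * l⁻¹ * d⁻¹ := by group
      rw [e] at h6
      rw [← hLinfC]
      refine Subgroup.mem_inf.2 ⟨?_, h6⟩
      rw [commutatorElement_def]
      have := mul_mem hl ((mem_normalizer_iff.1 (hDL hd) _).1 (inv_mem hl))
      rwa [← mul_assoc, ← mul_assoc] at this)
    have h6 : N = Q := eq_of_le_of_card_ge h2.le (by rw [h5, hcC])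
    exact h2.ne h6

end Cfsg.Agent.H2
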