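import Cfsg.Agent.H2.BG15a
import Cfsg.Agent.S1445
import Cfsg.Agent.H21.OT14r
import Cfsg.Agent.H20.Fpf2
import Cfsg.Agent.H21.OTNar
import Cfsg.Agent.H23.CoprimeHall

/-! BG 15.2. -/

set_option autoImplicit false

namespace Cfsg.Agent.H2

open Subgroup Cfsg
open Cfsg.Agent.L (cj nz SylIn sylIn_top)
open Cfsg.Agent.H14 (IsPiSub)
open Cfsg.Agent.OOT
open Cfsg.Agent.H21
open scoped Pointwise commutatorElement

universe u
variable {G : Type u} [Group G] [Finite G]

/-- `F(N ∩ ...)` transported into `G`. -/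
theorem fittingOf_subgroupOf_le {M N : Subgroup G} (hN : N ≤ M) {x : M}
    (hx : x ∈ fittingOf (N.subgroupOf M)) : (x : G) ∈ fittingOf N := by
  have h1 : (fittingOf (N.subgroupOf M)).map M.subtype ≤ fittingOf N := by
    apply le_fittingOf
    · exact (map_mono (fittingOf_le _)).trans (map_subgroupOf_eq_of_le hN).le
    · have h2 := le_normalizer_fittingOf (N.subgroupOf M)
      have h3 := (map_mono (f := M.subtype) h2).trans (le_normalizer_map M.subtype)
      rwa [map_subgroupOf_eq_of_le hN] at h3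
    · exact H1.isNilpotent_map _ (fittingOf_nilpotent _)
  exact h1 ⟨x, hx, rfl⟩

variable (hG : IsMinSimpleOddOrder G)
variable {M K U : Subgroup G} (hM : IsCoatom M) (h : IsSigmaDecomposition M K U)
  (hne : fittingHallOf M ≠ sigmaCore M)
include hG hM h hne

omit h in
theorem n_not_nil : ¬ Group.IsNilpotent (sigmaCore M) := fun hn => hne (fhOf_eq_ms hG hM hn)

theorem n_P1 : IsP1 M := by
  by_contra hP
  exact n_not_nil hG hM hne (not_p1_facts hG hM hP (dec_U_hall hG hM h)).2.1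

theorem n_U : U = ⊥ := (dec_P1_iff hG hM h).1 (n_P1 hG hM h hne)

theorem n_compl : IsComplIn K (sigmaCore M) M := dec_E_P1 hG hM h (n_U hG hM h hne)

theorem n_comm : ⁅sigmaCore M, K⁆ = sigmaCore M := (BB.S1426 hG M hM K (n_compl hG hM h hne)).2.1

theorem n_K : K ≠ ⊥ := by
  rintro rfl
  have h1 := n_comm hG hM h hne
  rw [commutator_bot_right] at h1
  apply n_not_nil hG hM hne
  rw [← h1]; infer_instance

theorem n_PM : PM M K := dec_PM hM h (n_K hG hM h hne)

theorem n_prime : (Nat.card (Kst M K)).Prime :=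
  dec_P1_kst hG hM h (n_K hG hM h hne) (n_U hG hM h hne)

theorem n_cop : (Nat.card K).Coprime (Nat.card (sigmaCore M)) := by
  refine Nat.coprime_of_dvd fun p hp h1 h2 => ?_
  have h3 := h.hall.2.1 p hp h1
  exact kappa_not_sigma h3 ((ms_hall hG hM).2.1 p hp h2)

theorem n_fit : Kst M K ≤ fittingOf (sigmaCore M) := by
  have hsol := coatom_sol hG hM
  have hMsM : sigmaCore M ≤ M := ms_le M
  have hKM : K ≤ M := h.hall.1
  have hPM := n_PM hG hM h hne
  have hcs : ∀ k : M, ∀ A : Subgroup G, A.subgroupOf M ⊓ centralizer ({k} : Set M) =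
      (A ⊓ centralizer ({(k : G)} : Set G)).subgroupOf M := by
    intro k A
    ext s
    rw [mem_inf, mem_centralizer_singleton_iff, mem_subgroupOf, mem_subgroupOf, mem_inf,
      mem_centralizer_singleton_iff, Subtype.ext_iff]
    rfl
  have hcK : ((sigmaCore M).subgroupOf M ⊓ centralizer ((K.subgroupOf M : Subgroup M) : Set M)) =
      (Kst M K).subgroupOf M := by
    rw [H10.centralizer_subgroupOf hKM]; rfl
  haveI hn : ((sigmaCore M).subgroupOf M).Normal :=
    (normal_subgroupOf_iff_le_normalizer hMsM).2 (le_nz_ms M)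
  by_contra hcon
  have hbot : fittingOf (sigmaCore M) ⊓ Kst M K = ⊥ := by
    have h1 : Nat.card ↥(fittingOf (sigmaCore M) ⊓ Kst M K) ∣ Nat.card (Kst M K) :=
      card_dvd_of_le inf_le_right
    rcases (Nat.dvd_prime (n_prime hG hM h hne)).1 h1 with h2 | h2
    · exact card_eq_one.1 h2
    · exfalso
      have h3 := eq_of_le_of_card_ge (inf_le_right : fittingOf (sigmaCore M) ⊓ Kst M K ≤ Kst M K) h2.ge
      exact hcon (inf_eq_right.1 h3)
  haveI := hsol
  have key := Cfsg.Agent.S1445.result (G := M) (odd_sub hG M) ((sigmaCore M).subgroupOf M) (K.subgroupOf M)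
    (by
      rw [sup_comm, ← subgroupOf_sup hKM hMsM, complIn_sup (n_compl hG hM h hne), subgroupOf_self])
    (by
      rw [H1.card_subgroupOf hMsM, H1.card_subgroupOf hKM]
      exact (n_cop hG hM h hne).symm)
    (by
      intro x hx hx1
      have e := hPM.cent_eq hG (k := (x : G)) hx (fun h0 => hx1 (Subtype.ext h0))
      rw [hcs, hcK, e])
    (by
      rw [eq_bot_iff]
      intro x hx
      obtain ⟨h1, h2⟩ := Subgroup.mem_inf.1 hx
      have h3 := fittingOf_subgroupOf_le hMsM h1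
      have h4 : x ∈ (sigmaCore M).subgroupOf M ⊓ centralizer ((K.subgroupOf M : Subgroup M) : Set M) :=
        Subgroup.mem_inf.2 ⟨fittingOf_le _ h1, h2⟩
      rw [hcK] at h4
      have h5 : (x : G) ∈ fittingOf (sigmaCore M) ⊓ Kst M K := Subgroup.mem_inf.2 ⟨h3, h4⟩
      rw [hbot, mem_bot] at h5
      exact Subtype.ext h5)
  apply n_not_nil hG hM hne
  have h1 : sigmaCore M ≤ fittingOf (sigmaCore M) := by
    have h2 := map_mono (f := M.subtype) key
    rw [map_commutator, map_subgroupOf_eq_of_le hMsM, map_subgroupOf_eq_of_le hKM, n_comm hG hM h hne] at h2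
    refine h2.trans ?_
    rintro _ ⟨x, hx, rfl⟩
    exact fittingOf_subgroupOf_le hMsM hx
  have h2 : sigmaCore M = fittingOf (sigmaCore M) := le_antisymm h1 (fittingOf_le _)
  rw [h2]; exact fittingOf_nilpotent _

end Cfsg.Agent.H2

namespace Cfsg.Agent.H2

open Subgroup Cfsg
open Cfsg.Agent.L (cj nz SylIn sylIn_top)
open Cfsg.Agent.H14 (IsPiSub)
open Cfsg.Agent.OOT
open Cfsg.Agent.H21
open scoped Pointwise commutatorElement

universe u

section gen
variable {X : Type u} [Group X] [Finite X]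

/-- Hall subgroups and quotients by a normal subgroup they contain, nilpotent quotient. -/
theorem nil_quot_sylow {π : Set ℕ} {N Q S : Subgroup X} [Q.Normal] (hQS : Q ≤ S)
    (hS : IsPiHallOf π S N) (hnil : Group.IsNilpotent (N.map (QuotientGroup.mk' Q))) :
    N ≤ nz S := by
  have h1 : IsPiHallOf π (S.map (QuotientGroup.mk' Q)) (N.map (QuotientGroup.mk' Q)) := IsPiHallOf.map _ hS
  have h2 := nil_hall_normal hnil h1
  apply H23.le_normalizer_of_conj_mem
  intro n hn s hs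
  have h3 := (mem_normalizer_iff.1 (h2 (mem_map_of_mem _ hn)) _).1 (mem_map_of_mem (QuotientGroup.mk' Q) hs)
  rw [← map_inv, ← map_mul, ← map_mul] at h3
  obtain ⟨t, ht, he⟩ := h3
  have h4 : t⁻¹ * (n * s * n⁻¹) ∈ Q := QuotientGroup.eq.1 he
  have h5 := mul_mem ht (hQS h4)
  rwa [mul_inv_cancel_left] at h5

theorem nil_of_map_nil {D N Q : Subgroup X} [Q.Normal] (hDN : D ≤ N) (hDQ : D ⊓ Q = ⊥)
    (hnil : Group.IsNilpotent (N.map (QuotientGroup.mk' Q))) : Group.IsNilpotent D := by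
  have h1 : Group.IsNilpotent (D.map (QuotientGroup.mk' Q)) := H1.isNilpotent_of_le (map_mono hDN) hnil
  let f : D →* D.map (QuotientGroup.mk' Q) :=
    ((QuotientGroup.mk' Q).comp D.subtype).codRestrict _ (fun x => mem_map_of_mem _ x.2)
  have hf : Function.Injective f := by
    rw [← MonoidHom.ker_eq_bot_iff, eq_bot_iff]
    intro x hx
    have h2 : (QuotientGroup.mk' Q) (x : X) = 1 := congrArg Subtype.val hx
    have h3 : (x : X) ∈ Q := (QuotientGroup.eq_one_iff (x : X)).1 h2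
    have h4 : (x : X) ∈ D ⊓ Q := Subgroup.mem_inf.2 ⟨x.2, h3⟩
    rw [hDQ, mem_bot] at h4
    exact mem_bot.2 (Subtype.ext h4)
  exact H1.isNilpotent_of_equiv (MonoidHom.ofInjective hf).symm
    (H1.isNilpotent_of_le (le_top : f.range ≤ ⊤) (H1.isNilpotent_of_equiv topEquiv.symm h1))

theorem isPiHallOf_subgroupOf {π : Set ℕ} {M H N : Subgroup X} (hN : N ≤ M) (h : IsPiHallOf π H N) :
    IsPiHallOf π (H.subgroupOf M) (N.subgroupOf M) := by
  refine ⟨fun x hx => h.1 hx, ?_, ?_⟩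
  · rw [H1.card_subgroupOf (h.1.trans hN)]; exact h.2.1
  · rw [relIndex_subgroupOf hN]; exact h.2.2

end gen

variable {G : Type u} [Group G] [Finite G]

/-- `O_q(M_σ)` with `q = |K*|`. -/
def nQ (M K : Subgroup G) : Subgroup G := piCoreOf {Nat.card (Kst M K)} (sigmaCore M)

theorem nQ_le (M K : Subgroup G) : nQ M K ≤ sigmaCore M := piCoreOf_le _ _

theorem nQ_nz (M K : Subgroup G) : M ≤ nz (nQ M K) :=
  (le_nz_ms M).trans (normalizer_le_normalizer_piCoreOf _ _)

variable (hG : IsMinSimpleOddOrder G)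
variable {M K U : Subgroup G} (hM : IsCoatom M) (h : IsSigmaDecomposition M K U)
  (hne : fittingHallOf M ≠ sigmaCore M)
include hG hM h hne

theorem nQ_p : IsPGroup (Nat.card (Kst M K)) (nQ M K) := by
  haveI : Fact (Nat.card (Kst M K)).Prime := ⟨n_prime hG hM h hne⟩
  exact isPGroup_of_isPiSub (isPiSub_piCoreOf _ _)

theorem kst_p : IsPGroup (Nat.card (Kst M K)) (Kst M K) :=
  IsPGroup.of_card (n := 1) (by rw [pow_one])

theorem kst_le_nQ : Kst M K ≤ nQ M K := by
  haveI : Fact (Nat.card (Kst M K)).Prime := ⟨n_prime hG hM h hne⟩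
  have h1 := nil_piCore_hall (fittingOf_nilpotent (sigmaCore M)) {Nat.card (Kst M K)}
  have h2 : Kst M K ≤ piCoreOf {Nat.card (Kst M K)} (fittingOf (sigmaCore M)) :=
    piSub_le_normal_hall h1 (le_normalizer_piCoreOf _ _) (n_fit hG hM h hne)
      (isPiSub_of_isPGroup (Set.mem_singleton _) (kst_p hG hM h hne))
  refine h2.trans (le_piCoreOf ((piCoreOf_le _ _).trans (fittingOf_le _)) ?_ (isPiSub_piCoreOf _ _))
  exact (le_normalizer_fittingOf _).trans (normalizer_le_normalizer_piCoreOf _ _)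

theorem nQ_nil [hn : ((nQ M K).subgroupOf M).Normal] :
    Group.IsNilpotent (((sigmaCore M).subgroupOf M).map (QuotientGroup.mk' ((nQ M K).subgroupOf M))) := by
  have hMsM : sigmaCore M ≤ M := ms_le M
  have hKM : K ≤ M := h.hall.1
  have hPM := n_PM hG hM h hne
  have hQM : nQ M K ≤ M := (nQ_le M K).trans hMsM
  obtain ⟨k0, hk0, hk01⟩ := exists_ne_one (n_K hG hM h hne)
  obtain ⟨r, hr, hrd⟩ := Nat.exists_prime_and_dvd (n := orderOf k0) (fun h0 => hk01 (orderOf_eq_one_iff.1 h0))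
  obtain ⟨k, hk, hkr⟩ := exists_prime_power_elt hr hrd
  have hkK : k ∈ K := (zpowers_le.2 hk0) hk
  have hk1 : k ≠ 1 := ne_one_of_orderOf hG hr hkr
  set π := QuotientGroup.mk' ((nQ M K).subgroupOf M) with hπ
  have hcopk : (Nat.card (zpowers (⟨k, hKM hkK⟩ : M))).Coprime (Nat.card ((nQ M K).subgroupOf M)) := by
    rw [H1.card_subgroupOf hQM]
    refine Nat.Coprime.coprime_dvd_right (card_dvd_of_le (nQ_le M K)) ?_
    refine Nat.Coprime.coprime_dvd_left ?_ (n_cop hG hM h hne)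
    have e : (zpowers (⟨k, hKM hkK⟩ : M)).map M.subtype = zpowers k := by
      rw [MonoidHom.map_zpowers]; rfl
    rw [← H1.card_map_subtype, e]
    exact card_dvd_of_le (zpowers_le.2 hkK)
  haveI := coatom_sol hG hM
  have hsol : Group.IsSolvable (zpowers (⟨k, hKM hkK⟩ : M)) ∨ Group.IsSolvable ((nQ M K).subgroupOf M) :=
    Or.inl inferInstance
  have hlift := H23.map_inf_centralizer (A := zpowers (⟨k, hKM hkK⟩ : M)) (G := (sigmaCore M).subgroupOf M)
    (N := (nQ M K).subgroupOf M) hcopk hsol (fun x hx => nQ_le M K hx)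
  refine H20.Fpf.isNilpotent_of_conj (h := π ⟨k, hKM hkK⟩) hr ?_ ?_ ?_
  · rw [← map_pow]
    have : (⟨k, hKM hkK⟩ : M) ^ r = 1 := Subtype.ext (by
      show k ^ r = 1
      rw [← hkr]; exact pow_orderOf_eq_one k)
    rw [this, map_one]
  · rintro _ ⟨x, hx, rfl⟩
    rw [← map_inv, ← map_mul, ← map_mul]
    refine mem_map_of_mem _ ?_
    exact (mem_normalizer_iff.1 (le_nz_ms M (hKM hkK)) _).1 hx
  · intro z hz hc
    have h1 : z ∈ ((sigmaCore M).subgroupOf M).map π ⊓
        centralizer (((zpowers (⟨k, hKM hkK⟩ : M)).map π : Subgroup _) : Set _) := by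
      refine Subgroup.mem_inf.2 ⟨hz, ?_⟩
      rw [MonoidHom.map_zpowers, cent_zpowers, mem_cent_singleton]
      exact hc.symm
    rw [← hlift] at h1
    obtain ⟨x, hx, rfl⟩ := h1
    obtain ⟨h2, h3⟩ := Subgroup.mem_inf.1 hx
    have h4 : (x : G) ∈ Kst M K := by
      rw [← hPM.cent_eq hG hkK hk1]
      refine Subgroup.mem_inf.2 ⟨h2, ?_⟩
      rw [mem_cent_singleton]
      rw [cent_zpowers, mem_cent_singleton] at h3
      exact congrArg Subtype.val h3
    have h5 := kst_le_nQ hG hM h hne h4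
    exact (QuotientGroup.eq_one_iff x).2 h5

omit hM h hne hG in
theorem nQ_normal (M K : Subgroup G) : ((nQ M K).subgroupOf M).Normal :=
  (normal_subgroupOf_iff_le_normalizer ((nQ_le M K).trans (ms_le M))).2 (nQ_nz M K)

omit hne h in
theorem ms_sol : Group.IsSolvable (sigmaCore M) :=
  sol hG (fun h0 => hM.1 (top_le_iff.1 (by rw [← h0]; exact ms_le M)))

theorem nQ_hall : IsPiHallOf {Nat.card (Kst M K)} (nQ M K) (sigmaCore M) := by
  have hMsM : sigmaCore M ≤ M := ms_le M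
  obtain ⟨S, hS⟩ := hallOf_exists (ms_sol hG hM) {Nat.card (Kst M K)}
  have h1 : nQ M K ≤ S := IsPiHallOf.piCoreOf_le (ms_sol hG hM) hS
  haveI := nQ_normal M K
  have h2 := nQ_nil hG hM h hne
  have h3 := nil_quot_sylow (Q := (nQ M K).subgroupOf M) (S := S.subgroupOf M)
    (fun x hx => h1 hx) (isPiHallOf_subgroupOf hMsM hS) h2
  have h4 : sigmaCore M ≤ nz S := by
    intro x hx
    have h5 := h3 (show (⟨x, hMsM hx⟩ : M) ∈ (sigmaCore M).subgroupOf M from hx)
    refine H23.le_normalizer_of_conj_mem (A := zpowers x) (G := S) ?_ (mem_zpowers x)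
    have hxz : ∀ y : M, y ∈ zpowers (⟨x, hMsM hx⟩ : M) → y ∈ normalizer ((S.subgroupOf M : Subgroup M) : Set M) :=
      fun y hy => (zpowers_le.2 h5) hy
    rintro a ⟨n, rfl⟩ g hg
    have hgM : g ∈ M := hMsM (hS.1 hg)
    have h6 := hxz ((⟨x, hMsM hx⟩ : M) ^ n) ⟨n, rfl⟩
    exact (mem_normalizer_iff.1 h6 ⟨g, hgM⟩).1 hg
  have h5 : S = nQ M K := IsPiHallOf.eq_piCoreOf hS h4
  rw [← h5]; exact hS

theorem n_mem_sigma : Nat.card (Kst M K) ∈ sigma M :=
  (ms_hall hG hM).2.1 _ (n_prime hG hM h hne) (card_dvd_of_le (kst_le_ms M K))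

theorem nQ_hallM : IsPiHallOf {Nat.card (Kst M K)} (nQ M K) M :=
  IsPiHallOf.trans (by rintro _ rfl; exact n_mem_sigma hG hM h hne) (nQ_hall hG hM h hne) (ms_hall hG hM)

theorem nQ_nilpotent : Group.IsNilpotent (nQ M K) := by
  haveI : Fact (Nat.card (Kst M K)).Prime := ⟨n_prime hG hM h hne⟩
  exact (nQ_p hG hM h hne).isNilpotent

theorem nQ_le_fh : nQ M K ≤ fittingHallOf M :=
  le_fhOf ((nQ_le M K).trans (ms_le M)) (nQ_nz M K) (nQ_nilpotent hG hM h hne)
    (IsPiHallOf.coprime (nQ_hallM hG hM h hne))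

theorem nD_nil {D : Subgroup G} (hD : IsComplIn (nQ M K) D (sigmaCore M)) : Group.IsNilpotent D := by
  have hMsM : sigmaCore M ≤ M := ms_le M
  haveI := nQ_normal M K
  have h2 := nQ_nil hG hM h hne
  have h3 := nil_of_map_nil (D := D.subgroupOf M) (N := (sigmaCore M).subgroupOf M)
    (Q := (nQ M K).subgroupOf M) (fun x hx => hD.2.1 hx) (by
      have e : D.subgroupOf M ⊓ (nQ M K).subgroupOf M = (D ⊓ nQ M K).subgroupOf M := rfl
      rw [e, inf_comm, hD.2.2.1, bot_subgroupOf]) h2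
  exact H1.isNilpotent_of_equiv (subgroupOfEquivOfLe (hD.2.1.trans hMsM)) h3

theorem nQ_ne : nQ M K ≠ ⊥ := by
  intro h0
  have h1 := kst_le_nQ hG hM h hne
  rw [h0, le_bot_iff] at h1
  exact (n_PM hG hM h hne).kst_ne hG h1

theorem nD_hall {D : Subgroup G} (hD : IsComplIn (nQ M K) D (sigmaCore M)) :
    IsPiHallOf {p | p ∉ ({Nat.card (Kst M K)} : Set ℕ)} D (sigmaCore M) :=
  complIn_hall (π := {Nat.card (Kst M K)}) (fun p hp => Iff.rfl) hD (nQ_hall hG hM h hne)

/-- there is a `K`-invariant complement. -/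
theorem exists_nD : ∃ D : Subgroup G, IsComplIn (nQ M K) D (sigmaCore M) ∧ K ≤ nz D := by
  obtain ⟨D, hD, hK⟩ := H23.exists_invariant_hall (A := K) (G := sigmaCore M)
    (h.hall.1.trans (le_nz_ms M)) (n_cop hG hM h hne) (ms_sol hG hM) {p | p ∉ ({Nat.card (Kst M K)} : Set ℕ)}
  exact ⟨D, (IsPiHallOf.isComplIn (fun p hp => Iff.rfl) (nQ_hall hG hM h hne) hD).1, hK⟩

theorem nD_coprime {D : Subgroup G} (hD : IsComplIn (nQ M K) D (sigmaCore M)) :
    (Nat.card D).Coprime (Nat.card (Kst M K)) := by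
  refine Nat.coprime_of_dvd fun p hp h1 h2 => ?_
  have h3 := (nD_hall hG hM h hne hD).2.1 p hp h1
  exact h3 ((Nat.prime_dvd_prime_iff_eq hp (n_prime hG hM h hne)).1 h2)

theorem nK_coprime : (Nat.card K).Coprime (Nat.card (Kst M K)) :=
  Nat.Coprime.coprime_dvd_right (card_dvd_of_le (kst_le_ms M K)) (n_cop hG hM h hne)

/-- structure for a `K`-invariant complement `D` -/
theorem nD_struct {D : Subgroup G} (hD : IsComplIn (nQ M K) D (sigmaCore M)) (hKD : K ≤ nz D) :
    (Nat.card K).Prime ∧ M ≤ nz (nQ M K ⊓ centralizer (D : Set G)) ∧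
      nQ M K ⊓ centralizer (D : Set G) < nQ M K ∧
      Nat.card (nQ M K) = Nat.card ↥(nQ M K ⊓ centralizer (D : Set G)) * Nat.card (Kst M K) ^ Nat.card K ∧
      (∀ a ∈ nQ M K, ∀ b ∈ nQ M K, a ^ Nat.card (Kst M K) ∈ nQ M K ⊓ centralizer (D : Set G) ∧
        a * b * a⁻¹ * b⁻¹ ∈ nQ M K ⊓ centralizer (D : Set G)) ∧
      (∀ N : Subgroup G, nQ M K ⊓ centralizer (D : Set G) < N → N < nQ M K → ¬ M ≤ nz N) ∧
      ¬ D ≤ centralizer (nQ M K : Set G) ∧ (∀ k ∈ K, k ≠ 1 → D ⊓ centralizer ({k} : Set G) = ⊥) := by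
  haveI : Fact (Nat.card (Kst M K)).Prime := ⟨n_prime hG hM h hne⟩
  have hPM := n_PM hG hM h hne
  have hMsM : sigmaCore M ≤ M := ms_le M
  have hKM : K ≤ M := h.hall.1
  have hDM : D ≤ M := hD.2.1.trans hMsM
  have hcD := nD_coprime hG hM h hne hD
  have hfr : ∀ k ∈ K, k ≠ 1 → D ⊓ centralizer ({k} : Set G) = ⊥ := by
    intro k hk hk1
    have h1 : D ⊓ centralizer ({k} : Set G) ≤ D ⊓ Kst M K := by
      refine le_inf inf_le_left ?_
      rw [← hPM.cent_eq hG hk hk1]
      exact inf_le_inf_right _ hD.2.1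
    rw [eq_bot_iff]
    refine h1.trans ?_
    rw [H23.inf_eq_bot_of_coprime hcD]
  have hK1 := n_K hG hM h hne
  have hDK : D ⊓ K = ⊥ := by
    have : K ⊓ sigmaCore M = ⊥ := (n_compl hG hM h hne).2.2.1
    rw [eq_bot_iff, ← this, inf_comm K]
    exact inf_le_inf_right _ hD.2.1
  have hQsup : nQ M K ⊔ D = sigmaCore M := complIn_sup hD
  have hsup : nQ M K ⊔ (D ⊔ K) = M := by
    rw [← sup_assoc, hQsup, sup_comm]; exact complIn_sup (n_compl hG hM h hne)
  have hle : D ⊔ K ≤ M := sup_le hDM hKM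
  have hDQ : ¬ D ≤ centralizer (nQ M K : Set G) := by
    intro h0
    apply n_not_nil hG hM hne
    -- `M_σ = Q × D`
    have hnD := nD_nil hG hM h hne hD
    have hnQ := nQ_nilpotent hG hM h hne
    rw [← hQsup]
    have hn1 : ((nQ M K).subgroupOf (nQ M K ⊔ D)).Normal :=
      (normal_subgroupOf_iff_le_normalizer le_sup_left).2 (sup_le le_normalizer (h0.trans (cent_le_nz _)))
    have hn2 : (D.subgroupOf (nQ M K ⊔ D)).Normal :=
      (normal_subgroupOf_iff_le_normalizer le_sup_right).2 (sup_le ((le_centralizer_iff.1 h0).trans (cent_le_nz _)) le_normalizer)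
    have h3 := H1.isNilpotent_sup_of_normal hn1 hn2 (H1.isNilpotent_subgroupOf le_sup_left hnQ)
      (H1.isNilpotent_subgroupOf le_sup_right hnD)
    rw [← subgroupOf_sup le_sup_left le_sup_right, subgroupOf_self] at h3
    exact H1.isNilpotent_of_equiv topEquiv h3
  haveI := coatom_sol hG hM
  have hs : Group.IsSolvable ↥(D ⊔ K) := sol hG (fun h0 => hM.1 (top_le_iff.1 (by rw [← h0]; exact hle)))
  have hck : nQ M K ⊓ centralizer (K : Set G) = Kst M K := by
    refine le_antisymm (inf_le_inf_right _ (nQ_le M K)) (le_inf (kst_le_nQ hG hM h hne) inf_le_right)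
  have hpr : ∀ k ∈ K, k ≠ 1 → nQ M K ⊓ centralizer ({k} : Set G) = nQ M K ⊓ centralizer (K : Set G) := by
    intro k hk hk1
    rw [hck, ← hPM.cent_eq hG hk hk1]
    refine le_antisymm (inf_le_inf_right _ (nQ_le M K)) (le_inf ?_ inf_le_right)
    rw [hPM.cent_eq hG hk hk1]; exact kst_le_nQ hG hM h hne
  obtain ⟨c1, c2, c3, c4, c5, c6, c7, c8⟩ := core152 (Q := nQ M K) (D := D) (K := K) hs (odd_sub hG _)
    (nQ_p hG hM h hne) (hDM.trans (nQ_nz M K)) (hKM.trans (nQ_nz M K)) hcD (nK_coprime hG hM h hne) hKD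
    hDK hK1 hfr hpr (by rw [hck]) hDQ
  refine ⟨c1, ?_, c5, c6, c7, ?_, hDQ, hfr⟩
  · conv_lhs => rw [← hsup]
    exact sup_le c2 (sup_le c3 c4)
  · intro N h1 h2 h3
    exact c8 N h1 h2 (hDM.trans h3) (hKM.trans h3)

end Cfsg.Agent.H2

namespace Cfsg.Agent.H2

open Subgroup Cfsg
open Cfsg.Agent.L (cj nz SylIn sylIn_top)
open Cfsg.Agent.H14 (IsPiSub)
open Cfsg.Agent.OOT
open Cfsg.Agent.H21
open scoped Pointwise commutatorElement

universe u
variable {G : Type u} [Group G] [Finite G]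
variable (hG : IsMinSimpleOddOrder G)
include hG

theorem mem_beta_of_not_narrow {M P : Subgroup G} (hM : IsCoatom M) {q : ℕ} [hq : Fact q.Prime]
    (hqs : q ∈ sigma M) (hP : SylIn q P M) (hn : ¬ IsNarrow q P) : q ∈ beta M := by
  have hqp := hq.out
  have hq2 : q ≠ 2 := prime_ne_two hG (mem_sigma_iff'.1 hqs).2.1
  have h1 : ¬ PRankLE q 2 P := fun h => hn (Or.inl h)
  have h2 : ¬ PRankLE q 2 M := by rwa [← pRankLE_sylIn hP]
  have hPt : SylIn q P ⊤ := sylow_mem_sylIn hP ((mem_sigma_iff'.1 hqs).2.2 P hP)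
  refine ⟨⟨hqp, h2⟩, hqp, ?_, ?_⟩
  · obtain ⟨E, hE, hEA, hEc⟩ := exists_ea_of_not_pRankLE h1
    intro h3
    have h4 := h3 E hEA.1 hEA.2
    rw [hEc] at h4
    exact absurd h4 (not_le.2 (Nat.pow_lt_pow_right hqp.one_lt (by norm_num)))
  · intro S A hAS hA hAc
    by_contra hcon
    push Not at hcon
    apply hn
    have h3 : IsNarrow q (S : Subgroup G) := by
      refine narrow_of_max_ea q hq2 S.2 (A.subgroupOf (S : Subgroup G)) ?_ ?_ ?_
      · refine ⟨mulComm_iff.2 fun a ha b hb => Subtype.ext (mulComm_iff.1 hA.1 a ha b hb), fun a ha => ?_⟩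
        exact Subtype.ext (hA.2 a ha)
      · rw [H1.card_subgroupOf hAS, hAc]
      · intro B hB hAB
        have k1 : A ≤ B.map (S : Subgroup G).subtype := fun a ha => ⟨⟨a, hAS ha⟩, hAB ha, rfl⟩
        have k2 : IsElementaryAbelian q (B.map (S : Subgroup G).subtype) := by
          refine ⟨mulComm_iff.2 ?_, ?_⟩
          · rintro _ ⟨a, ha, rfl⟩ _ ⟨b, hb, rfl⟩
            exact congrArg Subtype.val (mulComm_iff.1 hB.1 a ha b hb)
          · rintro _ ⟨a, ha, rfl⟩
            exact congrArg Subtype.val (hB.2 a ha)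
        have k3 := hcon _ (map_subtype_le B) k2
        have k4 : A = B.map (S : Subgroup G).subtype := by
          by_contra h0
          exact k3 (lt_of_le_of_ne k1 h0)
        rw [k4]
        ext x
        rw [mem_subgroupOf]
        constructor
        · intro hx; exact ⟨x, hx, rfl⟩
        · rintro ⟨y, hy, hyx⟩
          rwa [Subtype.ext hyx] at hy
    obtain ⟨x, -, hx⟩ := (sylIn_top S).exists_conj_eq hPt
    have e : (S : Subgroup G) ≃* P := by
      rw [← hx]
      exact (S : Subgroup G).equivMapOfInjective _ (MulAut.conj x).injective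
    exact isNarrow_congr e h3

end Cfsg.Agent.H2
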