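import Cfsg.Agent.H2.BG15b

/-! BG 15.2: row S1437. -/

set_option autoImplicit false

namespace Cfsg.Agent.H2

open Subgroup Cfsg
open Cfsg.Agent.L (cj nz SylIn sylIn_top)
open Cfsg.Agent.H14 (IsPiSub)
open Cfsg.Agent.OOT
open Cfsg.Agent.H21
open scoped Pointwise commutatorElement

universe u
variable {G : Type u} [Group G] [Finite G]
variable (hG : IsMinSimpleOddOrder G)
variable {M K U : Subgroup G} (hM : IsCoatom M) (h : IsSigmaDecomposition M K U)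
  (hne : fittingHallOf M ≠ sigmaCore M)
include hG hM h hne

theorem n_comm_D {D : Subgroup G} (hD : IsComplIn (nQ M K) D (sigmaCore M)) (hKD : K ≤ nz D) :
    ⁅D, K⁆ = D := by
  have hcop : (Nat.card K).Coprime (Nat.card D) :=
    Nat.Coprime.coprime_dvd_right (card_dvd_of_le hD.2.1) (n_cop hG hM h hne)
  have hs : Group.IsSolvable D := H1.isSolvable_of_le hD.2.1 (ms_sol hG hM)
  have h1 := H23.commutator_sup_centralizer hKD hcop (Or.inr hs)
  obtain ⟨k, hk, hk1⟩ := exists_ne_one (n_K hG hM h hne)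
  have h2 : D ⊓ centralizer (K : Set G) = ⊥ := by
    rw [eq_bot_iff, ← (nD_struct hG hM h hne hD hKD).2.2.2.2.2.2.2 k hk hk1]
    exact inf_le_inf_left _ (centralizer_le (by rw [Set.singleton_subset_iff]; exact hk))
  rw [h2, sup_bot_eq] at h1
  exact h1

theorem n_beta : Nat.card (Kst M K) ∈ beta M := by
  haveI : Fact (Nat.card (Kst M K)).Prime := ⟨n_prime hG hM h hne⟩
  obtain ⟨D, hD, hKD⟩ := exists_nD hG hM h hne
  have hst := nD_struct hG hM h hne hD hKD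
  have hle : D ⊔ K ≤ M := sup_le (hD.2.1.trans (ms_le M)) h.hall.1
  have hs : Group.IsSolvable ↥(D ⊔ K) := sol hG (fun h0 => hM.1 (top_le_iff.1 (by rw [← h0]; exact hle)))
  refine mem_beta_of_not_narrow hG hM (n_mem_sigma hG hM h hne)
    (sylIn_iff_hallOf.2 (nQ_hallM hG hM h hne)) ?_
  intro hn
  have hq2 : Nat.card (Kst M K) ≠ 2 := prime_ne_two hG (dvd_refl (Nat.card (Kst M K)))
  have hDK : D ⊓ K = ⊥ := by
    have : K ⊓ sigmaCore M = ⊥ := (n_compl hG hM h hne).2.2.1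
    rw [eq_bot_iff, ← this, inf_comm K]
    exact inf_le_inf_right _ hD.2.1
  have hcop : (Nat.card ↥(D ⊔ K)).Coprime (Nat.card (Kst M K)) := by
    rw [H23.card_sup_of_inf_eq_bot hKD (by rw [inf_comm]; exact hDK)]
    exact Nat.Coprime.mul_left (nD_coprime hG hM h hne hD) (nK_coprime hG hM h hne)
  have h1 := narrow_comm_cent hq2 (nQ_p hG hM h hne) hn (hle.trans (nQ_nz M K)) hs (odd_sub hG _) hcop
  apply hst.2.2.2.2.2.2.1
  calc D = ⁅D, K⁆ := (n_comm_D hG hM h hne hD hKD).symm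
    _ ≤ ⁅D ⊔ K, D ⊔ K⁆ := commutator_mono le_sup_left le_sup_right
    _ ≤ _ := h1

/-- `Q ∩ C(D)` does not depend on `D`. -/
theorem nD_eq {D D₀ : Subgroup G} (hD : IsComplIn (nQ M K) D (sigmaCore M))
    (hD₀ : IsComplIn (nQ M K) D₀ (sigmaCore M)) (hKD : K ≤ nz D₀) :
    nQ M K ⊓ centralizer (D : Set G) = nQ M K ⊓ centralizer (D₀ : Set G) := by
  obtain ⟨g, hg, he⟩ := IsPiHallOf.conj (ms_sol hG hM) (nD_hall hG hM h hne hD) (nD_hall hG hM h hne hD₀)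
  have hgM : g ∈ M := ms_le M hg
  have h1 := (nD_struct hG hM h hne hD₀ hKD).2.1 hgM
  have h2 : cj g (nQ M K) = nQ M K := L.mem_nz_iff.1 (nQ_nz M K hgM)
  rw [L.mem_nz_iff, L.cj_inf, h2, ← L.cent_cj, he] at h1
  exact h1

theorem row1437 :
    U = ⊥ ∧ Cfsg.sigmaCore M = ⁅M, M⁆ ∧ (Nat.card K).Prime ∧ (Nat.card ↥(Cfsg.sigmaCore M ⊓ Subgroup.centralizer (K : Set G))).Prime ∧
      Nat.card ↥(Cfsg.sigmaCore M ⊓ Subgroup.centralizer (K : Set G)) ∣ Nat.card (Cfsg.fittingHallOf M) ∧ Nat.card ↥(Cfsg.sigmaCore M ⊓ Subgroup.centralizer (K : Set G)) ∈ Cfsg.beta M ∧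
      ∃ Q : Subgroup G, Q ≤ Cfsg.fittingHallOf M ∧ M ≤ Subgroup.normalizer (Q : Set G) ∧ IsPGroup (Nat.card ↥(Cfsg.sigmaCore M ⊓ Subgroup.centralizer (K : Set G))) Q ∧
        ¬ Nat.card ↥(Cfsg.sigmaCore M ⊓ Subgroup.centralizer (K : Set G)) ∣ Q.relIndex (Cfsg.sigmaCore M) ∧
        ∀ D : Subgroup G, Cfsg.IsComplIn Q D (Cfsg.sigmaCore M) →
          Group.IsNilpotent D ∧ M ≤ Subgroup.normalizer ((Q ⊓ Subgroup.centralizer (D : Set G) : Subgroup G) : Set G) ∧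
          Q ⊓ Subgroup.centralizer (D : Set G) < Q ∧
          Nat.card Q = Nat.card ↥(Q ⊓ Subgroup.centralizer (D : Set G)) * Nat.card ↥(Cfsg.sigmaCore M ⊓ Subgroup.centralizer (K : Set G)) ^ Nat.card K ∧
          (∀ a ∈ Q, ∀ b ∈ Q, a ^ Nat.card ↥(Cfsg.sigmaCore M ⊓ Subgroup.centralizer (K : Set G)) ∈ Q ⊓ Subgroup.centralizer (D : Set G) ∧
            a * b * a⁻¹ * b⁻¹ ∈ Q ⊓ Subgroup.centralizer (D : Set G)) ∧
          ∀ N : Subgroup G, Q ⊓ Subgroup.centralizer (D : Set G) < N → N < Q → ¬ M ≤ Subgroup.normalizer (N : Set G) := by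
  obtain ⟨D₀, hD₀, hKD⟩ := exists_nD hG hM h hne
  obtain ⟨c1, c2, c3, c4, c5, c6, c7, c8⟩ := nD_struct hG hM h hne hD₀ hKD
  have hU := n_U hG hM h hne
  refine ⟨hU, ?_, c1, n_prime hG hM h hne, ?_, n_beta hG hM h hne, nQ M K, nQ_le_fh hG hM h hne,
    nQ_nz M K, nQ_p hG hM h hne, (nQ_hall hG hM h hne).2.2 _ (n_prime hG hM h hne) rfl, ?_⟩
  · rw [dec_derived hG hM h (n_K hG hM h hne), hU, bot_sup_eq]
  · exact card_dvd_of_le ((kst_le_nQ hG hM h hne).trans (nQ_le_fh hG hM h hne))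
  · intro D hD
    rw [nD_eq hG hM h hne hD hD₀ hKD]
    exact ⟨nD_nil hG hM h hne hD, c2, c3, c4, c5, c6⟩

end Cfsg.Agent.H2
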