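import Cfsg.Agent.H2.BG15c
import Cfsg.Agent.OOT.TenB

/-! BG 15.3-15.5: rows S1438, S1439. -/

set_option autoImplicit false

namespace Cfsg.Agent.H2

open Subgroup Cfsg
open Cfsg.Agent.L (cj nz SylIn sylIn_top)
open Cfsg.Agent.H14 (IsPiSub)
open Cfsg.Agent.OOT
open Cfsg.Agent.H21
open scoped Pointwise commutatorElement

universe u
variable {G : Type u} [Group G] [Finite G]

/-- Hall subgroups by coprimality. -/
theorem hall_of_coprime {H M : Subgroup G} (hH : H ≤ M)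
    (hc : (Nat.card H).Coprime (H.relIndex M)) :
    IsPiHallOf {p | p ∣ Nat.card H} H M :=
  ⟨hH, fun _ _ h => h, fun p hp h h' => hp.one_lt.ne' (Nat.eq_one_of_dvd_coprimes hc h h')⟩

theorem sylIn_of_hall {H M P : Subgroup G} {p : ℕ} [hp : Fact p.Prime] (hH : H ≤ M)
    (hc : (Nat.card H).Coprime (H.relIndex M)) (hd : p ∣ Nat.card H) (hP : SylIn p P H) :
    SylIn p P M := by
  refine ⟨hP.le.trans hH, hP.isPGroup, ?_⟩
  rw [← Subgroup.relIndex_mul_relIndex P H M hP.le hH]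
  intro h
  rcases hp.out.dvd_mul.1 h with h | h
  · exact hP.not_dvd h
  · exact hp.out.one_lt.ne' (Nat.eq_one_of_dvd_coprimes hc hd h)

/-- Intersection of a normal Hall subgroup with a subgroup. -/
theorem hall_inf_of_normal {π : Set ℕ} {S C M : Subgroup G} (h : IsPiHallOf π S M) (hn : M ≤ nz S)
    (hC : C ≤ M) : IsPiHallOf π (S ⊓ C) C := by
  refine ⟨inf_le_right, fun p hp hd => h.2.1 p hp (hd.trans (card_dvd_of_le inf_le_left)), ?_⟩
  intro p hp hpπ hd
  refine h.2.2 p hp hpπ ?_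
  rw [Subgroup.inf_relIndex_right, ← relIndex_sup_nz (hC.trans hn)] at hd
  rw [← Subgroup.relIndex_mul_relIndex S (S ⊔ C) M le_sup_left (sup_le h.1 hC)]
  exact hd.mul_right _

/-- An abelian subgroup of odd order without noncyclic elementary abelian subgroups is cyclic. -/
theorem isCyclic_of_abelian {X : Subgroup G} (hodd : Odd (Nat.card X)) (hab : IsMulCommutative X)
    (h : ∀ p : ℕ, p.Prime → ∀ A : Subgroup G, A ≤ X → IsElementaryAbelian p A → Nat.card A ≠ p ^ 2) :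
    IsCyclic X := by
  have hr : RankLE 1 X := by
    intro p hp
    haveI : Fact p.Prime := ⟨hp⟩
    by_contra hn
    obtain ⟨E, hE, hE1, hE2⟩ := exists_ea_of_not_pRankLE hn
    exact h p hp E hE hE1 hE2
  haveI : IsZGroup X := isZGroup_of_rankLE_one hodd hr
  haveI : Group.IsNilpotent X := by
    letI : CommGroup X := { (inferInstance : Group X) with mul_comm := hab.is_comm.comm }
    infer_instance
  infer_instance

variable (hG : IsMinSimpleOddOrder G)
include hG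

/-- a nontrivial Hall subgroup of `M_σ` commutes with no element of prime order `∈ κ(M)` -/
theorem hall_not_kappa {M H : Subgroup G} (hM : IsCoatom M) (hH : H ≤ sigmaCore M) (hH1 : H ≠ ⊥)
    (hHall : (Nat.card H).Coprime (H.relIndex (sigmaCore M))) {x : G} (hx : x ∈ M)
    (hxH : x ∈ centralizer (H : Set G)) {p : ℕ} (hp : p.Prime) (hxp : orderOf x = p)
    (hpk : p ∈ kappa M) : False := by
  have hx1 : x ≠ 1 := ne_one_of_orderOf hG hp hxp
  have hpi : IsPiSub (kappa M) (zpowers x) := by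
    intro q hq hd
    rw [Nat.card_zpowers, hxp] at hd
    rw [(Nat.prime_dvd_prime_iff_eq hq hp).1 hd]; exact hpk
  obtain ⟨K, hK, hxK⟩ := exists_hallOf_ge (coatom_sol hG hM) (K := zpowers x)
    (by rw [zpowers_le]; exact hx) hpi
  have hxK' : x ∈ K := hxK (mem_zpowers x)
  have hK1 : K ≠ ⊥ := by
    rintro rfl
    exact hx1 (Subgroup.mem_bot.1 hxK')
  have hPM : PM M K := ⟨hM, hK, hK1⟩
  have hHK : H ≤ Kst M K := by
    rw [← hPM.cent_eq hG hxK' hx1]
    refine le_inf hH (fun y hy => ?_)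
    rw [mem_cent_singleton]
    exact (mem_cent_iff.1 hxH y hy).symm
  obtain ⟨r, hr, hrH⟩ := Nat.exists_prime_and_dvd (n := Nat.card H) (by rwa [Ne, Subgroup.card_eq_one])
  haveI : Fact r.Prime := ⟨hr⟩
  obtain ⟨S, hS⟩ := L.exists_sylIn (p := r) H
  have hS' : SylIn r S (sigmaCore M) := sylIn_of_hall hH hHall hrH hS
  have h1 := (BB.S1431 hG M hM K hK hK1).2.2.1 r hr (hrH.trans (card_dvd_of_le hHK)) hS'.toSylow
  rw [hS'.map_toSylow] at h1
  exact h1.2.2 (hS.le.trans hHK)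

/-- BG 15.3, first part. -/
theorem cent_hall_sub {M H X : Subgroup G} (hM : IsCoatom M) (hH : H ≤ sigmaCore M) (hH1 : H ≠ ⊥)
    (hHall : (Nat.card H).Coprime (H.relIndex (sigmaCore M)))
    (hX : X ≤ M) (hXH : X ≤ centralizer (H : Set G)) (hXs : IsPiSub {p | p ∉ sigma M} X) :
    IsCyclic X ∧ IsPiSub (tau2 M) X := by
  have h2 : IsPiSub (tau2 M) X := by
    intro p hp hd
    haveI : Fact p.Prime := ⟨hp⟩
    obtain ⟨x, hx⟩ := exists_prime_orderOf_dvd_card' p hd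
    have hx' : orderOf (x : G) = p := by rw [orderOf_coe]; exact hx
    obtain ⟨y, hy, hy1⟩ := exists_ne_one hH1
    rcases kappa_or_tau2 hG hM (hX x.2) hp hx' (hXs p hp hd) (hH hy) hy1
      (mem_cent_iff.1 (hXH x.2) y hy) with h | h
    · exact (hall_not_kappa hG hM hH hH1 hHall (hX x.2) (hXH x.2) hp hx' h).elim
    · exact h
  refine ⟨?_, h2⟩
  refine isCyclic_of_abelian (odd_sub hG X) (tau2_group_abelian hG hM hX h2) ?_
  intro p hp A hA hA1 hA2
  haveI : Fact p.Prime := ⟨hp⟩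
  have hpA : p ∣ Nat.card A := by rw [hA2]; exact dvd_pow_self _ two_ne_zero
  have hpt : p ∈ tau2 M := h2 p hp (hpA.trans (card_dvd_of_le hA))
  have h3 := (BB.S1417 hG M hM p hpt A ⟨hA.trans hX, hA1, hA2⟩).2.2.2.1
  apply hH1
  rw [eq_bot_iff, ← h3]
  exact le_inf hH (le_cent_comm.1 (hA.trans hXH))

theorem row1438a {M H : Subgroup G} (hM : IsCoatom M) (hH : H ≤ sigmaCore M) (hH1 : H ≠ ⊥)
    (hHall : (Nat.card H).Coprime (H.relIndex (sigmaCore M))) :
    ∃ X : Subgroup G, IsCyclic X ∧ (∀ p : ℕ, p.Prime → p ∣ Nat.card X → p ∈ Cfsg.tau2 M) ∧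
        M ⊓ Subgroup.centralizer (H : Set G) = (Cfsg.sigmaCore M ⊓ Subgroup.centralizer (H : Set G)) ⊔ X := by
  have hs : Group.IsSolvable ↥(M ⊓ centralizer (H : Set G)) :=
    H1.isSolvable_of_le inf_le_left (coatom_sol hG hM)
  obtain ⟨X, hX⟩ := hallOf_exists hs {p | p ∉ sigma M}
  have h1 := cent_hall_sub hG hM hH hH1 hHall (hX.1.trans inf_le_left) (hX.1.trans inf_le_right) hX.2.1
  refine ⟨X, h1.1, h1.2, ?_⟩
  have h2 : IsPiHallOf (sigma M) (sigmaCore M ⊓ centralizer (H : Set G)) (M ⊓ centralizer (H : Set G)) := by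
    have h3 := hall_inf_of_normal (C := M ⊓ centralizer (H : Set G)) (ms_hall hG hM) (le_nz_ms M)
      inf_le_left
    rwa [← inf_assoc, inf_eq_left.2 (ms_le M)] at h3
  exact (complIn_sup (OOT.IsPiHallOf.isComplIn (fun p _ => Iff.rfl) h2 hX).1).symm

/-- BG 15.3, reduction to `M`. -/
theorem exists_mem_conj {M : Subgroup G} (hM : IsCoatom M) {x g : G} (hx : x ∈ sigmaCore M)
    (hx1 : x ≠ 1) (hg : g * x * g⁻¹ ∈ M) : ∃ m ∈ M, m * x * m⁻¹ = g * x * g⁻¹ := by
  have h1 : x ∈ cj g⁻¹ M := by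
    rw [L.mem_cj, inv_inv]; exact hg
  obtain ⟨c, hc, h2⟩ := conj_trans hG hM hx hx1 h1
  have h3 : g * c ∈ M := by
    have : cj (g * c) M = M := by
      rw [← L.cj_cj, h2, L.cj_cj_inv]
    rw [← coatom_normalizer_self hG hM]
    exact L.mem_nz_iff.2 this
  refine ⟨g * c, h3, ?_⟩
  have h4 := mem_cent_singleton.1 hc
  calc g * c * x * (g * c)⁻¹ = g * (c * x) * c⁻¹ * g⁻¹ := by group
    _ = g * x * g⁻¹ := by rw [h4]; group

omit hG in
/-- coprime to the index and normal: characteristic, hence normal in `M`. -/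
theorem nz_of_hall {S H M : Subgroup G} (hH : H ≤ S) (hc : (Nat.card H).Coprime (H.relIndex S))
    (hSH : S ≤ nz H) (hMS : M ≤ nz S) : M ≤ nz H := by
  have h1 := OOT.IsPiHallOf.eq_piCoreOf (hall_of_coprime hH hc) hSH
  rw [h1]
  exact hMS.trans (normalizer_le_normalizer_piCoreOf _ _)

theorem row1438b {M H : Subgroup G} (hM : IsCoatom M) (hH : H ≤ sigmaCore M)
    (hHall : (Nat.card H).Coprime (H.relIndex (sigmaCore M))) :
    ∀ x ∈ H, ∀ g : G, g * x * g⁻¹ ∈ H →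
      ∃ n ∈ M ⊓ Subgroup.normalizer (H : Set G), n * x * n⁻¹ = g * x * g⁻¹ := by
  intro x hx g hg
  by_cases hx1 : x = 1
  · refine ⟨1, one_mem _, ?_⟩
    rw [hx1]; group
  obtain ⟨m, hm, hmx⟩ := exists_mem_conj hG hM (hH hx) hx1 (ms_le M (hH hg))
  rw [← hmx] at hg ⊢
  by_cases hn : Group.IsNilpotent (sigmaCore M)
  · have h1 : M ≤ nz H := nz_of_hall hH hHall (nil_hall_normal hn (hall_of_coprime hH hHall)) (le_nz_ms M)
    exact ⟨m, ⟨hm, h1 hm⟩, rfl⟩
  obtain ⟨K, U, h⟩ : ∃ K U : Subgroup G, IsSigmaDecomposition M K U := by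
    obtain ⟨K, hK⟩ := exists_kappa_hall hG hM
    obtain ⟨U, hU⟩ := exists_dec hG hM hK
    exact ⟨K, U, hU⟩
  have hne : fittingHallOf M ≠ sigmaCore M := by
    intro h1
    apply hn
    rw [← h1]
    exact fhOf_nilpotent M
  have hs := ms_sol hG hM
  have hqp : Fact (Nat.card (Kst M K)).Prime := ⟨n_prime hG hM h hne⟩
  obtain ⟨D, hD, -⟩ := exists_nD hG hM h hne
  by_cases hq : Nat.card (Kst M K) ∣ Nat.card H
  · -- `Q ≤ H`
    obtain ⟨S, hS⟩ := L.exists_sylIn (p := Nat.card (Kst M K)) H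
    have hS' := sylIn_of_hall hH hHall hq hS
    obtain ⟨c, hc, hc1⟩ := hS'.exists_conj_eq (sylIn_iff_hallOf.2 (nQ_hall hG hM h hne))
    have hQH : nQ M K ≤ H := by
      have h2 : cj c⁻¹ (nQ M K) = nQ M K := L.mem_nz_iff.1 (nQ_nz M K (ms_le M (inv_mem hc)))
      rw [← h2, ← hc1, L.cj_inv_cj]
      exact hS.le
    have hnil := nD_nil hG hM h hne hD
    have hsup := complIn_sup hD
    have hcH : IsComplIn (nQ M K) (D ⊓ H) H := by
      refine ⟨hQH, inf_le_right, ?_, ?_⟩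
      · rw [eq_bot_iff, ← hD.2.2.1]
        exact inf_le_inf_left _ inf_le_left
      · intro y hy
        obtain ⟨a, ha, b, hb, hab⟩ := hD.2.2.2 y (hH hy)
        refine ⟨a, ha, b, Subgroup.mem_inf.2 ⟨hb, ?_⟩, hab⟩
        have : b = a⁻¹ * y := by rw [hab]; group
        rw [this]; exact mul_mem (inv_mem (hQH ha)) hy
    have e1 : nQ M K ⊔ (D ⊓ H) = H := complIn_sup hcH
    have hDH : D ≤ nz (D ⊓ H) := by
      have c1 := complIn_card hcH
      have c2 := complIn_card hD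
      have c3 := L.card_mul_relIndex (T := D ⊓ H) (U := D) inf_le_left
      have c4 := L.card_mul_relIndex hH
      have c5 : (D ⊓ H).relIndex D = H.relIndex (sigmaCore M) := by
        refine Nat.eq_of_mul_eq_mul_left (Nat.card_pos (α := H)) ?_
        rw [c4, ← c2, ← c1, ← c3]; ring
      refine nil_hall_normal (π := {p | p ∣ Nat.card H}) hnil ⟨inf_le_left, ?_, ?_⟩
      · intro p hp hd
        exact hd.trans (card_dvd_of_le inf_le_right)
      · rw [c5]
        exact (hall_of_coprime hH hHall).2.2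
    have h3 : sigmaCore M ≤ nz H := by
      rw [← hsup]
      refine sup_le (hQH.trans (L.le_nz H)) ?_
      rw [← e1]
      exact le_nz_sup ((hD.2.1.trans (ms_le M)).trans (nQ_nz M K)) hDH
    exact ⟨m, ⟨hm, nz_of_hall hH hHall h3 (le_nz_ms M) hm⟩, rfl⟩
  · -- `H ≤ D` up to conjugation
    have hDh := nD_hall hG hM h hne hD
    have hHq : IsPiSub {p | p ∉ ({Nat.card (Kst M K)} : Set ℕ)} H := by
      intro p hp hd h1
      rw [Set.mem_singleton_iff] at h1
      exact hq (h1 ▸ hd)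
    obtain ⟨D', hD', hHD⟩ := exists_hallOf_ge hs hH hHq
    have hD'' : IsComplIn (nQ M K) D' (sigmaCore M) :=
      (OOT.IsPiHallOf.isComplIn (fun p _ => Iff.rfl) (nQ_hall hG hM h hne) hD').1
    have hnil := nD_nil hG hM h hne hD''
    have hDH : IsPiHallOf {p | p ∣ Nat.card H} H D' :=
      OOT.IsPiHallOf.of_le (hall_of_coprime hH hHall) hHD hD'.1
    obtain ⟨s, hs1, n, hn1, hmn⟩ := hallOf_frattini hs (ms_le M) (le_nz_ms M) hD' hm
    obtain ⟨a, ha, b, hb, hab⟩ := hD''.2.2.2 s hs1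
    -- `m = a * (b * n)` with `a ∈ Q`, `b * n ∈ N(D') ≤ N(H)`
    have hHDH : H = piCoreOf {p | p ∣ Nat.card H} D' :=
      OOT.IsPiHallOf.eq_piCoreOf hDH (nil_hall_normal hnil hDH)
    have hnzH : nz D' ≤ nz H := by
      have := normalizer_le_normalizer_piCoreOf {p | p ∣ Nat.card H} D'
      rw [← hHDH] at this
      exact this
    have hbn : b * n ∈ M ⊓ nz H :=
      ⟨mul_mem (ms_le M (hD'.1 hb)) hn1.1, hnzH (mul_mem (L.le_nz D' hb) hn1.2)⟩
    refine ⟨b * n, hbn, ?_⟩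
    have hm' : m = a * (b * n) := by rw [hmn, hab]; group
    have hyH : b * n * x * (b * n)⁻¹ ∈ H := (mem_normalizer_iff.1 hbn.2 x).1 hx
    obtain ⟨y, hy⟩ : ∃ y, y = b * n * x * (b * n)⁻¹ := ⟨_, rfl⟩
    rw [← hy] at hyH ⊢
    have hmy : m * x * m⁻¹ = a * y * a⁻¹ := by rw [hm', hy]; group
    rw [hmy] at hg ⊢
    have h5 : a * y * a⁻¹ * y⁻¹ ∈ nQ M K ⊓ D' := by
      refine Subgroup.mem_inf.2 ⟨?_, mul_mem (hHD hg) (inv_mem (hHD hyH))⟩
      have h6 : y * a⁻¹ * y⁻¹ ∈ nQ M K :=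
        (mem_normalizer_iff.1 (nQ_nz M K (ms_le M (hH hyH))) _).1 (inv_mem ha)
      have h7 : a * y * a⁻¹ * y⁻¹ = a * (y * a⁻¹ * y⁻¹) := by group
      rw [h7]; exact mul_mem ha h6
    rw [hD''.2.2.1, Subgroup.mem_bot, mul_inv_eq_one] at h5
    exact h5.symm

/-- A normal `σ(M)'`-subgroup of `M` is a cyclic `τ₂(M)`-group centralizing `M_σ`. -/
theorem normal_sigma'_sub {M Y : Subgroup G} (hM : IsCoatom M) (hY : Y ≤ M) (hYn : M ≤ nz Y)
    (hYs : IsPiSub {p | p ∉ sigma M} Y) :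
    IsCyclic Y ∧ IsPiSub (tau2 M) Y ∧ Y ≤ centralizer (sigmaCore M : Set G) := by
  have h1 : sigmaCore M ⊓ Y = ⊥ := inf_bot_of_pi (ms_hall hG hM).2.1 hYs
  have h2 : Y ≤ centralizer (sigmaCore M : Set G) :=
    le_cent_of_coprime (hY.trans (le_nz_ms M)) ((ms_le M).trans hYn) (by rw [inf_comm]; exact h1)
  have h3 := cent_hall_sub hG hM (le_refl (sigmaCore M)) (OOT.sigmaCore_ne_bot hG hM)
    (by rw [Subgroup.relIndex_self]; exact Nat.coprime_one_right _) hY h2 hYs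
  exact ⟨h3.1, h3.2, h2⟩

omit [Finite G] hG in
theorem piCoreOf_congr {π π' : Set ℕ} (hπ : ∀ p : ℕ, p.Prime → (p ∈ π ↔ p ∈ π')) (M : Subgroup G) :
    piCoreOf π M = piCoreOf π' M := by
  have : piCore π M = piCore π' M := by
    unfold piCore
    congr 1
    ext N
    constructor
    · rintro ⟨h1, h2⟩
      exact ⟨h1, fun p hp hd => (hπ p hp).1 (h2 p hp hd)⟩
    · rintro ⟨h1, h2⟩
      exact ⟨h1, fun p hp hd => (hπ p hp).2 (h2 p hp hd)⟩
  unfold piCoreOf
  rw [this]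

/-- `Y = O_{σ(M)'}(F(M))` -/
abbrev Yof (M : Subgroup G) : Subgroup G := piCoreOf {q | q.Prime ∧ q ∉ Cfsg.sigma M} (Cfsg.fittingOf M)

omit hG in
theorem Yof_le (M : Subgroup G) : Yof M ≤ fittingOf M := piCoreOf_le _ _

omit hG in
theorem Yof_nz (M : Subgroup G) : M ≤ nz (Yof M) :=
  (le_normalizer_fittingOf M).trans (normalizer_le_normalizer_piCoreOf _ _)

omit hG in
theorem Yof_pi (M : Subgroup G) : IsPiSub {p | p ∉ sigma M} (Yof M) :=
  fun p hp hd => (isPiSub_piCoreOf _ _ p hp hd).2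

omit hG in
theorem fittingOf_ms_le (M : Subgroup G) : fittingOf (sigmaCore M) ≤ fittingOf M :=
  le_fittingOf ((fittingOf_le _).trans (ms_le M))
    ((le_nz_ms M).trans (normalizer_le_normalizer_fittingOf _)) (fittingOf_nilpotent _)

theorem fit_eq {M : Subgroup G} (hM : IsCoatom M) :
    fittingOf M = fittingOf (sigmaCore M) ⊔ Yof M := by
  apply le_antisymm
  · have h1 := nil_piCore_hall (fittingOf_nilpotent M) (sigma M)
    have h2 := nil_piCore_hall (fittingOf_nilpotent M) {q | q.Prime ∧ q ∉ Cfsg.sigma M}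
    have h3 : IsPiHallOf {p | p ∉ sigma M} (piCoreOf {q | q.Prime ∧ q ∉ Cfsg.sigma M} (fittingOf M))
        (fittingOf M) :=
      ⟨h2.1, fun p hp hd => (h2.2.1 p hp hd).2, fun p hp hd => h2.2.2 p hp ⟨hp, hd⟩⟩
    have h4 := complIn_sup (OOT.IsPiHallOf.isComplIn (fun p _ => Iff.rfl) h1 h3).1
    have h5 : piCoreOf (sigma M) (fittingOf M) ≤ fittingOf (sigmaCore M) := by
      have h6 : M ≤ nz (piCoreOf (sigma M) (fittingOf M)) :=
        (le_normalizer_fittingOf M).trans (normalizer_le_normalizer_piCoreOf _ _)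
      have h7 : piCoreOf (sigma M) (fittingOf M) ≤ sigmaCore M :=
        le_ms hG hM (h1.1.trans (fittingOf_le M)) h1.2.1
      exact le_fittingOf h7 ((ms_le M).trans h6) (H1.isNilpotent_of_le h1.1 (fittingOf_nilpotent M))
    calc fittingOf M = _ := h4.symm
      _ ≤ _ := sup_le_sup_right h5 _
  · exact sup_le (fittingOf_ms_le M) (Yof_le M)

theorem row1439 {M : Subgroup G} (hM : IsCoatom M) :
    IsCyclic (Yof M) ∧
      (∀ p : ℕ, p.Prime → p ∣ Nat.card (Yof M) → p ∈ Cfsg.tau2 M) ∧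
      Cfsg.fittingOf M = Cfsg.fittingOf (Cfsg.sigmaCore M) ⊔ Yof M := by
  obtain ⟨h1, h2, h3⟩ := normal_sigma'_sub hG hM ((Yof_le M).trans (fittingOf_le M)) (Yof_nz M) (Yof_pi M)
  exact ⟨h1, h2, fit_eq hG hM⟩

end Cfsg.Agent.H2
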