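import Cfsg.Agent.H2.BG15d
import Cfsg.Agent.H21.OT14r
import Cfsg.Agent.H10.PLoc
import Cfsg.Agent.H2.WType

/-! BG 15.7, first part. -/

set_option autoImplicit false

namespace Cfsg.Agent.H2

open Subgroup Cfsg
open Cfsg.Agent.L (cj nz SylIn sylIn_top)
open Cfsg.Agent.H14 (IsPiSub)
open Cfsg.Agent.OOT
open Cfsg.Agent.H21
open scoped Pointwise commutatorElement

universe u
variable {G : Type u} [Group G] [Finite G]

/-- `F(M) ∩ F(M)^g`. -/
abbrev X7 (M : Subgroup G) (g : G) : Subgroup G := fittingOf M ⊓ cj g (fittingOf M)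

structure N7 (M : Subgroup G) (g : G) : Prop where
  coatom : IsCoatom M
  nmem : g ∉ M
  ne : X7 M g ≠ ⊥

theorem nz_of_cyclic {M V R : Subgroup G} (hV : IsCyclic V) (hn : M ≤ nz V) (hR : R ≤ V) :
    M ≤ nz R := by
  intro m hm
  rw [L.mem_nz_iff]
  have h1 : cj m R ≤ V := by
    have h2 := L.cj_mono (g := m) hR
    rwa [L.mem_nz_iff.1 (hn hm)] at h2
  exact H21.eq_of_card_of_cyclic hV h1 hR (L.card_cj _ _)

theorem Yof_hall (M : Subgroup G) : IsPiHallOf {p | p ∉ sigma M} (Yof M) (fittingOf M) := by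
  have h2 := nil_piCore_hall (fittingOf_nilpotent M) {q | q.Prime ∧ q ∉ Cfsg.sigma M}
  exact ⟨h2.1, fun p hp hd => (h2.2.1 p hp hd).2, fun p hp hd => h2.2.2 p hp ⟨hp, hd⟩⟩

variable (hG : IsMinSimpleOddOrder G)
variable {M : Subgroup G} {g : G} (h : N7 M g)
include hG h

theorem N7.cj_ne : cj g M ≠ M := by
  intro e
  apply h.nmem
  rw [← coatom_normalizer_self hG h.coatom]
  exact L.mem_nz_iff.2 e

theorem N7.no_cyc {V R : Subgroup G} (hV : IsCyclic V) (hVM : M ≤ nz V) (hR : R ≤ V)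
    (hR' : R ≤ cj g V) (hR1 : R ≠ ⊥) (hRM : R ≤ M) : False := by
  have h1 : M ≤ nz R := nz_of_cyclic hV hVM hR
  have h2 : cj g M ≤ nz R := nz_of_cyclic (isCyclic_cj.2 hV) (by rw [L.nz_cj]; exact L.cj_mono hVM) hR'
  have h3 : nz R = M := coatom_normalizer_eq hG h.coatom hR1 hRM h1
  rw [h3] at h2
  exact h.cj_ne hG (L.eq_of_le_of_card_le h2 (L.card_cj g M).ge)

theorem N7.pi : IsPiSub (sigma M) (X7 M g) := by
  intro s hs hd
  by_contra hn
  obtain ⟨R, hR, hRs⟩ := exists_prime_sub' hs hd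
  have hRp : IsPiSub {p | p ∉ sigma M} R := by
    intro p hp hd'
    rw [hRs] at hd'
    rw [(Nat.prime_dvd_prime_iff_eq hp hs).1 hd']
    exact hn
  have hY := Yof_hall M
  have hYn : fittingOf M ≤ nz (Yof M) := (fittingOf_le M).trans (Yof_nz M)
  have h1 : R ≤ Yof M := piSub_le_normal_hall hY hYn (hR.trans inf_le_left) hRp
  have h2 : R ≤ cj g (Yof M) :=
    piSub_le_normal_hall (OOT.IsPiHallOf.cj hY g) (by rw [L.nz_cj]; exact L.cj_mono hYn)
      (hR.trans inf_le_right) hRp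
  exact h.no_cyc hG (row1439 hG h.coatom).1 (Yof_nz M) h1 h2
    (ne_bot_of_card_prime (by rw [hRs]; exact hs)) ((hR.trans inf_le_left).trans (fittingOf_le M))

omit hG h in
theorem X7_le (M : Subgroup G) (g : G) : X7 M g ≤ M := inf_le_left.trans (fittingOf_le M)

omit hG h in
theorem X7_le' (M : Subgroup G) (g : G) : X7 M g ≤ cj g M := inf_le_right.trans (L.cj_mono (fittingOf_le M))

theorem N7.le_ms : X7 M g ≤ sigmaCore M := H21.le_ms hG h.coatom (X7_le M g) (h.pi hG)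

theorem N7.le_ms' : X7 M g ≤ cj g (sigmaCore M) := by
  rw [← sigmaCore_cj]
  exact H21.le_ms hG (coatom_cj h.coatom g) (X7_le' M g) (by rw [sigma_cj]; exact h.pi hG)

theorem N7.tam : IsCyclic ↥(sigmaCore M ⊓ cj g M) ∧
    (∀ p : ℕ, p.Prime → p ∣ Nat.card ↥(sigmaCore M ⊓ cj g M) → p ∉ beta M) ∧
    sigmaCore M ⊓ cj g M ⊓ ⁅sigmaCore M, sigmaCore M⁆ = ⊥ := by
  obtain ⟨E, hE⟩ := exists_compl hG h.coatom
  exact (BB.S1426 hG M h.coatom E (complIn_symm (complIn_symm hE))).2.2 g h.nmem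

theorem N7.le_tam : X7 M g ≤ sigmaCore M ⊓ cj g M := le_inf (h.le_ms hG) (X7_le' M g)

theorem N7.cyclic : IsCyclic (X7 M g) := isCyclic_of_le (h.le_tam hG) (h.tam hG).1

theorem N7.not_beta {p : ℕ} (hp : p.Prime) (hd : p ∣ Nat.card (X7 M g)) : p ∉ beta M :=
  (h.tam hG).2.1 p hp (hd.trans (card_dvd_of_le (h.le_tam hG)))

theorem N7.inf_comm : X7 M g ⊓ ⁅sigmaCore M, sigmaCore M⁆ = ⊥ := by
  rw [eq_bot_iff, ← (h.tam hG).2.2]
  exact inf_le_inf_right _ (h.le_tam hG)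

/-- `C(R) ≰ M` for `1 ≠ R ≤ X` a `p`-group -/
theorem N7.no_cent {R : Subgroup G} (hR : R ≤ X7 M g) (hp : (Nat.card R).Prime) :
    ¬ centralizer (R : Set G) ≤ M := by
  intro hc
  have hpF : Fact (Nat.card R).Prime := ⟨hp⟩
  have hRp : IsPGroup (Nat.card R) R := IsPGroup.of_card (n := 1) (by rw [pow_one])
  have hσ : Nat.card R ∈ sigma M := h.pi hG _ hp (card_dvd_of_le hR)
  have h1 : cj g⁻¹ R ≤ M := by
    rw [L.cj_le_iff, inv_inv]
    exact hR.trans (X7_le' M g)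
  obtain ⟨m, hm, c, hc', e⟩ := (BB.S1404 hG M h.coatom (Nat.card R) hσ R hRp
    (ne_bot_of_card_prime hp) (hR.trans (X7_le M g))).1 g⁻¹ h1
  apply h.nmem
  rw [← inv_inv g, e]
  exact inv_mem (mul_mem hm (hc hc'))

theorem N7.no_uniq {R V : Subgroup G} (hR : R ≤ X7 M g) (hp : (Nat.card R).Prime)
    (hV : InUniqueMaximal V) (hVM : V ≤ M) (hVR : V ≤ centralizer (R : Set G)) : False :=
  h.no_cent hG hR hp (uniq_le hV h.coatom hVM hVR (centralizer_ne_top hG (ne_bot_of_card_prime hp)))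

theorem N7.exists_R : ∃ R : Subgroup G, R ≤ X7 M g ∧ (Nat.card R).Prime := exists_prime_sub h.ne

theorem N7.nil : Group.IsNilpotent (sigmaCore M) := by
  by_contra hn
  obtain ⟨K, U, hd⟩ : ∃ K U : Subgroup G, IsSigmaDecomposition M K U := by
    obtain ⟨K, hK⟩ := exists_kappa_hall hG h.coatom
    obtain ⟨U, hU⟩ := exists_dec hG h.coatom hK
    exact ⟨K, U, hU⟩
  have hM := h.coatom
  have hne : fittingHallOf M ≠ sigmaCore M := by
    intro h1
    apply hn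
    rw [← h1]
    exact fhOf_nilpotent M
  have hqp : Fact (Nat.card (Kst M K)).Prime := ⟨n_prime hG hM hd hne⟩
  have hβ := n_beta hG hM hd hne
  obtain ⟨R, hR, hRp⟩ := h.exists_R hG
  have hne' : Nat.card R ≠ Nat.card (Kst M K) := by
    intro e
    exact h.not_beta hG hRp (card_dvd_of_le hR) (e ▸ hβ)
  have hnF : nQ M K ≤ fittingOf M :=
    le_fittingOf ((nQ_le M K).trans (ms_le M)) (nQ_nz M K) (nQ_nilpotent hG hM hd hne)
  have hcop : (Nat.card (nQ M K)).Coprime (Nat.card R) := by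
    obtain ⟨k, hk⟩ := (IsPGroup.iff_card.1 (nQ_p hG hM hd hne))
    rw [hk]
    exact Nat.Coprime.pow_left _ ((Nat.coprime_primes hqp.out hRp).2 (Ne.symm hne'))
  have h1 : nQ M K ≤ centralizer (R : Set G) :=
    nil_cent (fittingOf_nilpotent M) hnF (hR.trans inf_le_left) hcop
  have h2 : InUniqueMaximal (nQ M K) := by
    apply OOT.sylow_uniq hG (nQ_p hG hM hd hne)
    rw [pRankLE_sylIn (sylIn_iff_hallOf.2 (nQ_hallM hG hM hd hne))]
    exact hβ.1.2
  exact h.no_uniq hG hR hRp h2 ((nQ_le M K).trans (ms_le M)) h1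

theorem N7.fh_eq : fittingHallOf M = sigmaCore M := fhOf_eq_ms hG h.coatom (h.nil hG)

theorem N7.fit_eq : fittingOf M = sigmaCore M ⊔ Yof M := by
  have h1 := H2.fit_eq hG h.coatom
  have h2 : fittingOf (sigmaCore M) = sigmaCore M :=
    le_antisymm (fittingOf_le _) (le_fittingOf le_rfl (L.le_nz _) (h.nil hG))
  rwa [h2] at h1

theorem N7.rank {R : Subgroup G} (hR : R ≤ X7 M g) (hp : (Nat.card R).Prime) :
    RankLE 2 ↥(M ⊓ centralizer (R : Set G)) := by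
  by_contra hn
  obtain ⟨r, hr, hrk⟩ := not_rankLE hn
  haveI : Fact r.Prime := ⟨hr⟩
  obtain ⟨E, hE, hE1, hE2⟩ := exists_ea_of_not_pRankLE hrk
  have h2 : InUniqueMaximal E :=
    OOT.sylow_uniq hG (isEA_isPGroup hE1) (not_pRankLE_of_ea le_rfl hE1 hE2.ge)
  exact h.no_uniq hG hR hp h2 (hE.trans inf_le_left) (hE.trans inf_le_right)

end Cfsg.Agent.H2
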