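import Cfsg.Agent.H2.BG15e
import Cfsg.Agent.S1456
import Cfsg.Agent.S1453
import Cfsg.Agent.S1422
import Cfsg.Agent.S1399
import Cfsg.Agent.S1412
import Cfsg.Agent.S1421

/-! BG 15.7, second part. -/

set_option autoImplicit false

namespace Cfsg.Agent.H2

namespace BBX
alias S1456 := Cfsg.Agent.S1456.result
alias S1453 := Cfsg.Agent.S1453.result
alias S1422 := Cfsg.Agent.S1422.result
alias S1399 := Cfsg.Agent.S1399.result
alias S1412 := Cfsg.Agent.S1412.result
alias S1421 := Cfsg.Agent.S1421.result
end BBX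

open Subgroup Cfsg
open Cfsg.Agent.L (cj nz SylIn sylIn_top)
open Cfsg.Agent.H14 (IsPiSub)
open Cfsg.Agent.OOT
open Cfsg.Agent.H21
open scoped Pointwise commutatorElement

universe u
variable {G : Type u} [Group G] [Finite G]

omit [Finite G] in
theorem rankLE_of_injective {A B : Type u} [Group A] [Group B] (f : A →* B)
    (hf : Function.Injective f) {k : ℕ} (hB : RankLE k B) : RankLE k A := by
  intro p hp E hE1 hE2
  have h1 := hB p hp (E.map f) ?_ ?_
  · rwa [Subgroup.card_map_of_injective hf] at h1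
  · have hE1' := mulComm_iff.1 hE1
    rw [mulComm_iff]
    rintro _ ⟨a, ha, rfl⟩ _ ⟨b, hb, rfl⟩
    rw [← map_mul, ← map_mul, hE1' a ha b hb]
  · rintro _ ⟨a, ha, rfl⟩
    rw [← map_pow, hE2 a ha, map_one]

omit [Finite G] in
theorem map_commutator_eq (M : Subgroup G) : (commutator M).map M.subtype = ⁅M, M⁆ := by
  rw [commutator_def, Subgroup.map_commutator, ← MonoidHom.range_eq_map, M.range_subtype]

variable (hG : IsMinSimpleOddOrder G)
variable {M : Subgroup G} {g : G} (h : N7 M g)
include hG h

theorem N7.comm_le : ⁅M, M⁆ ≤ fittingOf M := by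
  obtain ⟨R, hR, hRp⟩ := h.exists_R hG
  haveI : Fact (Nat.card R).Prime := ⟨hRp⟩
  haveI : Group.IsSolvable M := coatom_sol hG h.coatom
  have hRM : R ≤ M := hR.trans (X7_le M g)
  have hRF : R.subgroupOf M ≤ fittingSubgroup M := by
    have h1 := hR.trans inf_le_left
    intro x hx
    obtain ⟨y, hy, hyx⟩ := h1 hx
    have : y = x := Subtype.ext hyx
    rwa [← this]
  have hRc : IsMulCommutative R := by
    haveI : IsCyclic R := isCyclic_of_prime_card rfl
    rw [mulComm_iff]
    exact comm_of_cyclic inferInstance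
  have hEA : IsElementaryAbelian (Nat.card R) (R.subgroupOf M) := by
    constructor
    · rw [mulComm_iff] at hRc ⊢
      intro a ha b hb
      exact Subtype.ext (hRc a ha b hb)
    · intro a ha
      apply Subtype.ext
      rw [coe_pow, coe_one]
      have h3 := pow_card_eq_one' (x := (⟨(a : G), ha⟩ : R))
      exact congrArg Subtype.val h3
  have hr : RankLE 2 ↥(fittingSubgroup M ⊓ centralizer ((R.subgroupOf M : Subgroup M) : Set M)) := by
    obtain ⟨A, hA⟩ : ∃ A : Subgroup M, A = fittingSubgroup M ⊓ centralizer ((R.subgroupOf M : Subgroup M) : Set M) := ⟨_, rfl⟩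
    rw [← hA]
    have hm : ∀ x : A, (M.subtype.comp A.subtype) x ∈ M ⊓ centralizer (R : Set G) := by
      rintro ⟨x, hx⟩
      rw [hA] at hx
      refine ⟨x.2, mem_cent_iff.2 ?_⟩
      intro y hy
      have h3 := mem_cent_iff.1 hx.2 ⟨y, hRM hy⟩ hy
      exact congrArg Subtype.val h3
    refine rankLE_of_injective ((M.subtype.comp A.subtype).codRestrict _ hm) ?_ (h.rank hG hR hRp)
    intro a b hab
    have h4 := congrArg Subtype.val hab
    exact Subtype.ext (Subtype.ext h4)
  have h2 := BBX.S1456 (odd_sub hG M) (Nat.card R) (R.subgroupOf M) hRF hEA hr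
  rw [← map_commutator_eq]
  exact map_mono h2

end Cfsg.Agent.H2
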