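import Cfsg.Agent.H2.BG15f
import Cfsg.Agent.OOT.TenE
import Cfsg.Agent.OOT.TenF

/-! BG 15.7, third part: Sylow structure of `M_σ`. -/

set_option autoImplicit false

namespace Cfsg.Agent.H2

open Subgroup Cfsg
open Cfsg.Agent.L (cj nz SylIn sylIn_top)
open Cfsg.Agent.H14 (IsPiSub)
open Cfsg.Agent.OOT
open Cfsg.Agent.H21
open scoped Pointwise commutatorElement

universe u
variable {G : Type u} [Group G] [Finite G]

/-- a nilpotent group with abelian Sylow subgroups is abelian -/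
theorem nil_abelian_of_sylow {C : Subgroup G} (hC : Group.IsNilpotent C)
    (h : ∀ (r : ℕ) (_ : Fact r.Prime) (S : Subgroup G), IsPGroup r S → S ≤ C → IsMulCommutative S) :
    IsMulCommutative C := by
  have h1 : C ≤ centralizer (C : Set G) := by
    apply le_of_sylow_le
    intro r hr _
    haveI : Fact r.Prime := ⟨hr⟩
    have hS := nil_piCore_hall hC {r}
    have hT := nil_piCore_hall hC {q | q ∉ ({r} : Set ℕ)}
    have hc := (OOT.IsPiHallOf.isComplIn (fun p _ => Iff.rfl) hS hT)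
    have hp : IsPGroup r (piCoreOf {r} C) := isPGroup_of_isPiSub hS.2.1
    have hab := mulComm_iff.1 (h r inferInstance _ hp hS.1)
    refine ⟨_, sylIn_iff_hallOf.2 hS, ?_⟩
    intro s hs
    rw [mem_cent_iff]
    intro c hc'
    obtain ⟨a, ha, b, hb, rfl⟩ := hc.1.2.2.2 c hc'
    have hcop : (Nat.card (piCoreOf {r} C)).Coprime (Nat.card (piCoreOf {q | q ∉ ({r} : Set ℕ)} C)) :=
      coprime_of_pi hS.2.1 (fun p hp hpr hd => hT.2.1 p hp hd hpr)
    have h2 := mem_cent_iff.1 (nil_cent hC hS.1 hT.1 hcop hs) b hb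
    rw [← mul_assoc, hab s hs a ha, mul_assoc, h2, mul_assoc]
  rw [mulComm_iff]
  intro a ha b hb
  exact mem_cent_iff.1 (h1 ha) b hb

theorem not_rankLE_one_of_not_cyclic {C : Subgroup G} (hodd : Odd (Nat.card C))
    (hab : IsMulCommutative C) (h : RankLE 1 C) : IsCyclic C := by
  refine isCyclic_of_abelian hodd hab ?_
  intro p hp A hA hA1 hA2
  haveI : Fact p.Prime := ⟨hp⟩
  exact not_pRankLE_of_ea (k := 1) hA hA1 hA2.ge (h p hp)

def P7 (M : Subgroup G) (p : ℕ) : Subgroup G := piCoreOf {p} (sigmaCore M)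
def C7 (M : Subgroup G) (p : ℕ) : Subgroup G := piCoreOf {q | q ∉ ({p} : Set ℕ)} (sigmaCore M)

theorem P7_nz (M : Subgroup G) (p : ℕ) : M ≤ nz (P7 M p) :=
  (le_nz_ms M).trans (normalizer_le_normalizer_piCoreOf _ _)

theorem C7_nz (M : Subgroup G) (p : ℕ) : M ≤ nz (C7 M p) :=
  (le_nz_ms M).trans (normalizer_le_normalizer_piCoreOf _ _)

theorem P7_le (M : Subgroup G) (p : ℕ) : P7 M p ≤ sigmaCore M := piCoreOf_le _ _
theorem C7_le (M : Subgroup G) (p : ℕ) : C7 M p ≤ sigmaCore M := piCoreOf_le _ _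

variable (hG : IsMinSimpleOddOrder G)
variable {M : Subgroup G} {g : G} (h : N7 M g) {p : ℕ} [hpF : Fact p.Prime]
include hG h

omit hG h in
theorem P7_p : IsPGroup p (P7 M p) := isPGroup_of_isPiSub (isPiSub_piCoreOf _ _)

omit hpF in
theorem N7.P_hall : IsPiHallOf {p} (P7 M p) (sigmaCore M) := nil_piCore_hall (h.nil hG) _

omit hpF in
theorem N7.C_hall : IsPiHallOf {q | q ∉ ({p} : Set ℕ)} (C7 M p) (sigmaCore M) :=
  nil_piCore_hall (h.nil hG) _

omit hpF in
theorem N7.PC : IsComplIn (P7 M p) (C7 M p) (sigmaCore M) :=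
  (OOT.IsPiHallOf.isComplIn (fun p _ => Iff.rfl) (h.P_hall hG) (h.C_hall hG)).1

omit hpF in
theorem N7.PC_cop : (Nat.card (C7 M p)).Coprime (Nat.card (P7 M p)) :=
  (coprime_of_pi (h.P_hall hG).2.1
    (fun _ hp hpr hd => (h.C_hall hG).2.1 _ hp hd hpr)).symm

omit hpF in
theorem N7.C_cent : C7 M p ≤ centralizer (P7 M p : Set G) :=
  nil_cent (h.nil hG) (C7_le M p) (P7_le M p) (h.PC_cop hG)

variable {R : Subgroup G} (hR : R ≤ X7 M g) (hRp : Nat.card R = p)
include hR hRp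

theorem N7.p_sigma : p ∈ sigma M := by
  have := h.pi hG p hpF.out (hRp ▸ card_dvd_of_le hR)
  exact this

theorem N7.P_syl : SylIn p (P7 M p) M := by
  rw [sylIn_iff_hallOf]
  exact OOT.IsPiHallOf.trans (π' := sigma M)
    (by rw [Set.singleton_subset_iff]; exact h.p_sigma hG hR hRp) (h.P_hall hG) (ms_hall hG h.coatom)

theorem N7.P_top : SylIn p (P7 M p) ⊤ :=
  sylow_mem_sylIn (h.P_syl hG hR hRp)
    ((OOT.mem_sigma_iff hG).1 (h.p_sigma hG hR hRp) |>.2.2 _ (h.P_syl hG hR hRp))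

theorem N7.R_p : IsPGroup p R := IsPGroup.of_card (n := 1) (by rw [hRp, pow_one])

theorem N7.R_prime : (Nat.card R).Prime := by rw [hRp]; exact hpF.out

theorem N7.R_le : R ≤ P7 M p :=
  piSub_le_normal_hall (h.P_hall hG) ((ms_le M).trans (P7_nz M p)) (hR.trans (h.le_ms hG))
    (isPiSub_of_isPGroup (Set.mem_singleton p) (h.R_p hG hR hRp))

theorem N7.C_R : C7 M p ≤ centralizer (R : Set G) :=
  (h.C_cent hG).trans (centralizer_le (h.R_le hG hR hRp))

theorem N7.C_comm : IsMulCommutative (C7 M p) := by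
  refine nil_abelian_of_sylow (H1.isNilpotent_of_le (C7_le M p) (h.nil hG)) ?_
  intro r hr S hS hSC
  by_contra hna
  exact h.no_uniq hG hR (h.R_prime hG hR hRp) (BBX.S1422 hG r S hS hna)
    ((hSC.trans (C7_le M p)).trans (ms_le M)) (hSC.trans (h.C_R hG hR hRp))

theorem N7.P_not_cent (hna : ¬ IsMulCommutative (P7 M p)) : ¬ P7 M p ≤ centralizer (R : Set G) := by
  intro hc
  exact h.no_uniq hG hR (h.R_prime hG hR hRp) (BBX.S1422 hG p _ P7_p hna)
    ((P7_le M p).trans (ms_le M)) hc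

theorem N7.C_cyclic (hna : ¬ IsMulCommutative (P7 M p)) : IsCyclic (C7 M p) := by
  refine not_rankLE_one_of_not_cyclic (odd_sub hG _) (h.C_comm hG hR hRp) ?_
  by_contra hr
  exact h.no_uniq hG hR (h.R_prime hG hR hRp)
    (BBX.S1399 hG (P7 M p) (C7 M p) (BBX.S1422 hG p _ P7_p hna) (h.C_cent hG) hr)
    ((C7_le M p).trans (ms_le M)) (h.C_R hG hR hRp)

/-- the abelian case -/
theorem N7.H_comm (hab : IsMulCommutative (P7 M p)) : IsMulCommutative (sigmaCore M) := by
  have h1 := mulComm_iff.1 hab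
  have h2 := mulComm_iff.1 (h.C_comm hG hR hRp)
  have h3 : ∀ c ∈ C7 M p, ∀ a ∈ P7 M p, c * a = a * c := fun c hc a ha =>
    mem_cent_iff.1 (h.C_cent hG hc) a ha
  rw [mulComm_iff]
  intro x hx y hy
  obtain ⟨a, ha, b, hb, rfl⟩ := (h.PC hG (p := p)).2.2.2 x hx
  obtain ⟨c, hc, d, hd, rfl⟩ := (h.PC hG (p := p)).2.2.2 y hy
  calc a * b * (c * d) = a * (b * c) * d := by group
    _ = a * (c * b) * d := by rw [h3 b hb c hc]
    _ = a * c * (b * d) := by group
    _ = c * a * (d * b) := by rw [h1 a ha c hc, h2 b hb d hd]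
    _ = c * (a * d) * b := by group
    _ = c * (d * a) * b := by rw [h3 d hd a ha]
    _ = c * d * (a * b) := by group

theorem N7.H_rank (hab : IsMulCommutative (P7 M p)) :
    RankLE 2 (sigmaCore M) ∧ ¬ RankLE 1 (sigmaCore M) := by
  have hc := mulComm_iff.1 (h.H_comm hG hR hRp hab)
  constructor
  · refine rankLE_mono ?_ (h.rank hG hR (h.R_prime hG hR hRp))
    refine le_inf (ms_le M) (fun x hx => mem_cent_iff.2 (fun y hy => hc x hx y (h.le_ms hG (hR hy))))
  · intro hr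
    have hcy := not_rankLE_one_of_not_cyclic (odd_sub hG _) (h.H_comm hG hR hRp hab) hr
    exact h.no_cyc hG hcy (le_nz_ms M) (hR.trans (h.le_ms hG)) (hR.trans (h.le_ms' hG))
      (ne_bot_of_card_prime (h.R_prime hG hR hRp)) (hR.trans (X7_le M g))

omit hRp hpF hR in
theorem N7.K_or_U {K U : Subgroup G} (hd : IsSigmaDecomposition M K U) : K = ⊥ ∨ U = ⊥ := by
  by_contra hn
  push_neg at hn
  obtain ⟨hK, hU⟩ := hn
  have hPM : PM M K := dec_PM h.coatom hd hK
  have hP1 : ¬ IsP1 M := fun h1 => hU ((dec_P1_iff hG h.coatom hd).1 h1)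
  obtain ⟨R', hR', hp'⟩ := h.exists_R hG
  exact h.not_beta hG hp' (card_dvd_of_le hR')
    (hPM.sigma_sub_beta hG hP1 (h.pi hG _ hp' (card_dvd_of_le hR')))

theorem N7.K_bot (hab : IsMulCommutative (P7 M p)) {K U : Subgroup G}
    (hd : IsSigmaDecomposition M K U) : K = ⊥ := by
  by_contra hK
  have hU : U = ⊥ := (h.K_or_U hG hd).resolve_left hK
  have hE := dec_E_P1 hG h.coatom hd hU
  have h1 := (BB.S1426 hG M h.coatom K hE).1
  have hc := h.H_comm hG hR hRp hab
  have h2 : ⁅sigmaCore M, sigmaCore M⁆ = ⊥ := by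
    rw [commutator_eq_bot_iff_le_centralizer]
    intro x hx
    exact mem_cent_iff.2 (fun y hy => mulComm_iff.1 hc x hx y hy)
  rw [h2, le_bot_iff] at h1
  exact (dec_PM h.coatom hd hK).kst_ne hG h1

end Cfsg.Agent.H2
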