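import Cfsg.Agent.H2.BG15g

/-! BG 15.7, nonabelian case. -/

set_option autoImplicit false

namespace Cfsg.Agent.H2

open Subgroup Cfsg
open Cfsg.Agent.L (cj nz SylIn sylIn_top)
open Cfsg.Agent.H14 (IsPiSub)
open Cfsg.Agent.OOT
open Cfsg.Agent.H21
open Cfsg.Agent.H22 (MaxEA2)
open scoped Pointwise commutatorElement

universe u
variable {G : Type u} [Group G] [Finite G]

theorem ea_card_le' {p k : ℕ} [hp : Fact p.Prime] {E H : Subgroup G} (hE : E ≤ H)
    (hEA : IsElementaryAbelian p E) (h : PRankLE p k H) : Nat.card E ≤ p ^ k := by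
  by_contra hn
  push_neg at hn
  obtain ⟨n, hn'⟩ := IsPGroup.iff_card.1 (isEA_isPGroup hEA)
  have h1 : k < n := by
    rw [hn'] at hn
    exact (Nat.pow_lt_pow_iff_right hp.out.one_lt).1 hn
  refine not_pRankLE_of_ea hE hEA ?_ h
  rw [hn']
  exact Nat.pow_le_pow_right hp.out.pos h1

theorem le_of_prime_inf {R S : Subgroup G} (hR : (Nat.card R).Prime) (h : R ⊓ S ≠ ⊥) : R ≤ S := by
  have h1 : Nat.card ↥(R ⊓ S) ∣ Nat.card R := card_dvd_of_le inf_le_left
  rcases (Nat.dvd_prime hR).1 h1 with h2 | h2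
  · exact (h (Subgroup.card_eq_one.1 h2)).elim
  · have := L.eq_of_le_of_card_le (inf_le_left : R ⊓ S ≤ R) h2.ge
    rw [← this]; exact inf_le_right

variable (hG : IsMinSimpleOddOrder G)
variable {M : Subgroup G} {g : G} (h : N7 M g) {p : ℕ} [hpF : Fact p.Prime]
variable {R : Subgroup G} (hR : R ≤ X7 M g) (hRp : Nat.card R = p)
  (hna : ¬ IsMulCommutative (P7 M p))
include hG h hR hRp hna

theorem N7.X_p : IsPGroup p (X7 M g) := by
  apply isPGroup_of_isPiSub
  intro r hr hd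
  by_contra hrp
  obtain ⟨R', hR', hR'r⟩ := exists_prime_sub' hr hd
  have hpi : IsPiSub {q | q ∉ ({p} : Set ℕ)} R' := by
    intro q hq hq'
    rw [hR'r] at hq'
    rw [(Nat.prime_dvd_prime_iff_eq hq hr).1 hq']
    exact hrp
  have hn : sigmaCore M ≤ nz (C7 M p) := (ms_le M).trans (C7_nz M p)
  refine h.no_cyc hG (h.C_cyclic hG hR hRp hna) (C7_nz M p) (R := R') ?_ ?_
    (ne_bot_of_card_prime (by rw [hR'r]; exact hr)) (hR'.trans (X7_le M g))
  · exact piSub_le_normal_hall (h.C_hall hG) hn (hR'.trans (h.le_ms hG)) hpi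
  · exact piSub_le_normal_hall (OOT.IsPiHallOf.cj (h.C_hall hG) g)
      (by rw [L.nz_cj]; exact L.cj_mono hn) (hR'.trans (h.le_ms' hG)) hpi

theorem N7.X_le_P : X7 M g ≤ P7 M p :=
  piSub_le_normal_hall (h.P_hall hG) ((ms_le M).trans (P7_nz M p)) (h.le_ms hG)
    (isPiSub_of_isPGroup (Set.mem_singleton p) (h.X_p hG hR hRp hna))

theorem N7.R_inf_Z : R ⊓ omZ p (P7 M p) = ⊥ := by
  by_contra hne
  have h1 := le_of_prime_inf (h.R_prime hG hR hRp) hne
  exact h.P_not_cent hG hR hRp hna (le_cent_comm.1 (h1.trans (omZ_le_centralizer _ _)))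

theorem N7.Z_cent_R : omZ p (P7 M p) ≤ centralizer (R : Set G) :=
  (omZ_le_centralizer _ _).trans (centralizer_le (h.R_le hG hR hRp))

omit hna in
theorem N7.R_ea : IsElementaryAbelian p R := by
  haveI : IsCyclic R := isCyclic_of_prime_card hRp
  refine ⟨mulComm_iff.2 (comm_of_cyclic inferInstance), ?_⟩
  intro a ha
  have h3 := pow_card_eq_one' (x := (⟨a, ha⟩ : R))
  rw [hRp] at h3
  exact congrArg Subtype.val h3

theorem N7.RZ_ea : IsElementaryAbelian p (R ⊔ omZ p (P7 M p) : Subgroup G) :=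
  isEA_sup (h.R_ea hG hR hRp) (isEA_omZ _ _) (le_cent_comm.1 (h.Z_cent_R hG hR hRp hna))

theorem N7.RZ_card : Nat.card (R ⊔ omZ p (P7 M p) : Subgroup G) = p * Nat.card (omZ p (P7 M p)) := by
  rw [card_sup_of_le_nz ((h.Z_cent_R hG hR hRp hna).trans (cent_le_nz R)) (h.R_inf_Z hG hR hRp hna),
    hRp]

theorem N7.ea_le {B : Subgroup G} (hB : B ≤ P7 M p) (hRB : R ≤ B) (hBe : IsElementaryAbelian p B) :
    Nat.card B ≤ p ^ 2 := by
  refine ea_card_le' (H := M ⊓ centralizer (R : Set G)) ?_ hBe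
    (h.rank hG hR (h.R_prime hG hR hRp) p hpF.out)
  refine le_inf (hB.trans ((P7_le M p).trans (ms_le M))) (fun b hb => mem_cent_iff.2 (fun y hy => ?_))
  exact mulComm_iff.1 hBe.1 b hb y (hRB hy)

theorem N7.P_ne : P7 M p ≠ ⊥ := by
  intro h0
  apply hna
  rw [h0]; infer_instance

theorem N7.Z_card : Nat.card (omZ p (P7 M p)) = p := by
  have h1 := h.ea_le hG hR hRp hna (sup_le (h.R_le hG hR hRp) (omZ_le p _)) le_sup_left
    (h.RZ_ea hG hR hRp hna)
  rw [h.RZ_card hG hR hRp hna, pow_two] at h1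
  have h2 := Nat.le_of_mul_le_mul_left h1 hpF.out.pos
  have h3 : omZ p (P7 M p) ≠ ⊥ := omZ_ne_bot P7_p (h.P_ne hG hR hRp hna)
  obtain ⟨n, hn⟩ := IsPGroup.iff_card.1 (isEA_isPGroup (isEA_omZ p (P7 M p)))
  have h4 : n ≠ 0 := by
    rintro rfl
    rw [pow_zero] at hn
    exact h3 (Subgroup.card_eq_one.1 hn)
  exact le_antisymm h2 (Nat.le_of_dvd Nat.card_pos (hn ▸ dvd_pow_self p h4))

theorem N7.maxEA : MaxEA2 p (P7 M p) (R ⊔ omZ p (P7 M p)) where
  le := sup_le (h.R_le hG hR hRp) (omZ_le p _)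
  ea := h.RZ_ea hG hR hRp hna
  card := by rw [h.RZ_card hG hR hRp hna, h.Z_card hG hR hRp hna, pow_two]
  max := by
    intro B hB hBe hle
    have h1 := h.ea_le hG hR hRp hna hB (le_sup_left.trans hle) hBe
    refine (L.eq_of_le_of_card_le hle ?_).symm
    rw [h.RZ_card hG hR hRp hna, h.Z_card hG hR hRp hna, ← pow_two]
    exact h1

theorem N7.X_eq_of_le {T : Subgroup G} (hT : X7 M g ⊓ T ≠ ⊥) : R ≤ T := by
  obtain ⟨S, hS, hSp⟩ := exists_prime_sub hT
  have hSX : S ≤ X7 M g := hS.trans inf_le_left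
  have hpS : Nat.card S = p := by
    obtain ⟨n, hn⟩ := IsPGroup.iff_card.1 ((h.X_p hG hR hRp hna).to_le hSX)
    rw [hn] at hSp
    have hn0 : n ≠ 0 := by
      rintro rfl
      rw [pow_zero] at hSp
      exact Nat.not_prime_one hSp
    rw [hn]
    exact ((Nat.prime_dvd_prime_iff_eq hpF.out hSp).1 (dvd_pow_self p hn0)).symm
  rw [H21.eq_of_card_of_cyclic (h.cyclic hG) hR hSX (hRp.trans hpS.symm)]
  exact hS.trans inf_le_right

theorem N7.X_card_of_rank3 (hr : ¬ PRankLE p 2 (P7 M p)) : Nat.card (X7 M g) ≤ p := by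
  obtain ⟨P, hP⟩ : ∃ P : Subgroup G, P = P7 M p := ⟨_, rfl⟩
  have hPp : IsPGroup p P := by rw [hP]; exact P7_p
  have hmax := h.maxEA hG hR hRp hna
  have hZP := omZ_le p (P7 M p)
  have hZc := omZ_le_centralizer p (P7 M p)
  have hRP := h.R_le hG hR hRp
  have hXP := h.X_le_P hG hR hRp hna
  rw [← hP] at hmax hr hZP hZc hRP hXP
  obtain ⟨Z, hZ⟩ : ∃ Z : Subgroup G, Z = omZ p P := ⟨_, rfl⟩
  rw [← hZ] at hmax hZP hZc
  have hp2 : p ≠ 2 := by
    rw [← hRp]; exact prime_ne_two hG (dvd_refl _)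
  obtain ⟨E, hE⟩ : ∃ E : Subgroup P, E = (R ⊔ Z).subgroupOf P := ⟨_, rfl⟩
  have hEe : IsElementaryAbelian p E := by
    rw [hE]
    constructor
    · have h1 := mulComm_iff.1 hmax.ea.1
      rw [mulComm_iff]
      intro a ha b hb
      exact Subtype.ext (h1 a ha b hb)
    · intro a ha
      exact Subtype.ext (hmax.ea.2 a ha)
  have hEc : Nat.card E = p ^ 2 := by
    rw [hE, H1.card_subgroupOf hmax.le]; exact hmax.card
  have hEm : ∀ B : Subgroup P, IsElementaryAbelian p B → E ≤ B → B = E := by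
    intro B hB hEB
    have h1 : IsElementaryAbelian p (B.map P.subtype) := by
      constructor
      · have h1 := mulComm_iff.1 hB.1
        rw [mulComm_iff]
        rintro _ ⟨a, ha, rfl⟩ _ ⟨b, hb, rfl⟩
        exact congrArg Subtype.val (h1 a ha b hb)
      · rintro _ ⟨a, ha, rfl⟩
        exact congrArg Subtype.val (hB.2 a ha)
    have h2 : R ⊔ Z ≤ B.map P.subtype := by
      have h3 := map_mono (f := P.subtype) hEB
      rwa [hE, map_subgroupOf_eq_of_le hmax.le] at h3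
    have h3 := hmax.max _ (map_subtype_le B) h1 h2
    rw [hE, ← h3, subgroupOf, comap_map_eq_self_of_injective P.subtype_injective]
  obtain ⟨c1, -, -, -, c5⟩ := BBX.S1453 p hp2 hPp hr E hEe hEc hEm
  obtain ⟨T, hT⟩ : ∃ T : Subgroup P, T = centralizer ((Subgroup.closure {x : P | x ∈ Subgroup.upperCentralSeries P 2 ∧ x ^ p = 1} : Subgroup P) : Set P) := ⟨_, rfl⟩
  rw [← hT] at c1 c5
  have hZT : Z.subgroupOf P ≤ T := by
    intro z hz
    rw [hT, mem_centralizer_iff]
    intro w _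
    have := mem_cent_iff.1 (hZc hz) w w.2
    exact Subtype.ext this.symm
  have hRT : ¬ R ≤ T.map P.subtype := by
    intro hle
    apply c1
    have h1 : R ⊔ Z ≤ T.map P.subtype := by
      refine sup_le hle ?_
      have := map_mono (f := P.subtype) hZT
      rwa [map_subgroupOf_eq_of_le hZP] at this
    rw [hE, ← comap_map_eq_self_of_injective P.subtype_injective T]
    exact comap_mono h1
  have hXT : X7 M g ⊓ T.map P.subtype = ⊥ := by
    by_contra hne
    exact hRT (h.X_eq_of_le hG hR hRp hna hne)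
  have h1 : ((X7 M g).subgroupOf P) ⊓ T = ⊥ := by
    rw [eq_bot_iff]
    intro x hx
    have h2 : (x : G) ∈ X7 M g ⊓ T.map P.subtype := Subgroup.mem_inf.2 ⟨hx.1, ⟨x, hx.2, rfl⟩⟩
    rw [hXT, Subgroup.mem_bot] at h2
    rw [Subgroup.mem_bot]
    exact Subtype.ext h2
  rw [← H1.card_subgroupOf hXP, ← c5]
  have h2 : T.relIndex ((X7 M g).subgroupOf P) = Nat.card ((X7 M g).subgroupOf P) := by
    rw [← inf_relIndex_right, _root_.inf_comm, h1, relIndex_bot_left]
  rw [← h2, ← relIndex_top_right T]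
  exact relIndex_le_of_le_right le_top (by rw [relIndex_top_right]; exact index_ne_zero_of_finite)

theorem N7.X_card_of_rank2 (hr : PRankLE p 2 (P7 M p)) : Nat.card (X7 M g) ≤ p := by
  obtain ⟨P₁, P₂, e1, e2, e3, e4, e5, e6, e7⟩ := (sylow_rank_two hG (h.P_top hG hR hRp) hr).resolve_left hna
  have h8 := center_eq_commutator_of_card_cube e4 e3
  have key : ∀ y ∈ X7 M g, y ^ (p ^ 2) = 1 → y ^ p = 1 := by
    intro y hy hy2
    have hyP := h.X_le_P hG hR hRp hna hy
    rw [← e1] at hyP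
    have hc : P₂ ≤ nz P₁ := by
      refine le_trans ?_ (cent_le_nz P₁)
      intro b hb
      exact mem_cent_iff.2 (fun a ha => (e2 a ha b hb).symm)
    obtain ⟨a, ha, b, hb, hab⟩ := (H23.mem_sup_iff_of_le_normalizer hc).1 hyP
    have h9 : a ^ p = 1 := by
      have := Monoid.pow_exponent_eq_one (⟨a, ha⟩ : P₁)
      rw [e5] at this
      exact congrArg Subtype.val this
    have h10 : y ^ p = b ^ p := by
      rw [← hab, (Commute.mul_pow (e2 a ha b hb) p), h9, one_mul]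
    have h11 : b ^ p ∈ P₁ ⊓ centralizer (P₁ : Set G) := by
      rw [← e7]
      apply Subgroup.subset_closure
      refine ⟨pow_mem hb p, ?_⟩
      rw [← h10, ← pow_mul, ← pow_two]
      exact hy2
    rw [h8] at h11
    have hP1 : P₁ ≤ sigmaCore M := (le_sup_left.trans e1.le).trans (P7_le M p)
    have h12 : y ^ p ∈ X7 M g ⊓ ⁅sigmaCore M, sigmaCore M⁆ := by
      refine Subgroup.mem_inf.2 ⟨pow_mem hy p, ?_⟩
      rw [h10]
      exact commutator_mono hP1 hP1 h11
    rw [h.inf_comm hG, Subgroup.mem_bot] at h12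
    exact h12
  obtain ⟨x, hx⟩ := (h.cyclic hG).exists_generator
  obtain ⟨k, hk⟩ := IsPGroup.iff_card.1 (h.X_p hG hR hRp hna)
  have hox : orderOf x = p ^ k := by
    rw [← hk]; exact orderOf_eq_card_of_forall_mem_zpowers hx
  rw [hk]
  by_contra hn
  push_neg at hn
  have hk2 : 2 ≤ k := by
    by_contra hk'
    have : k ≤ 1 := by omega
    have h13 := Nat.pow_le_pow_right hpF.out.pos this
    rw [pow_one] at h13
    omega
  obtain ⟨m, rfl⟩ := Nat.exists_eq_add_of_le hk2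
  have h14 := key ((x ^ (p ^ m) : X7 M g) : G) (x ^ (p ^ m)).2 (by
    rw [← Subgroup.coe_pow, ← pow_mul, ← pow_add, add_comm m 2, ← hox, pow_orderOf_eq_one]; rfl)
  rw [← Subgroup.coe_pow, ← pow_mul, ← pow_succ] at h14
  have h15 : x ^ (p ^ (m + 1)) = 1 := Subtype.ext h14
  have h16 := orderOf_dvd_of_pow_eq_one h15
  rw [hox, Nat.pow_dvd_pow_iff_le_right hpF.out.one_lt] at h16
  omega

theorem N7.X_eq : X7 M g = R := by
  refine (L.eq_of_le_of_card_le hR ?_).symm
  rw [hRp]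
  by_cases hr : PRankLE p 2 (P7 M p)
  · exact h.X_card_of_rank2 hG hR hRp hna hr
  · exact h.X_card_of_rank3 hG hR hRp hna hr

end Cfsg.Agent.H2
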