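import Cfsg.Agent.H2.BG15h
import Cfsg.Agent.H2.AutCube
import Cfsg.Agent.H22.OddPG13

/-! BG 15.7, conclusion. -/

set_option autoImplicit false

namespace Cfsg.Agent.H2

open Subgroup Cfsg
open Cfsg.Agent.L (cj nz SylIn sylIn_top)
open Cfsg.Agent.H14 (IsPiSub)
open Cfsg.Agent.OOT
open Cfsg.Agent.H21
open Cfsg.Agent.H22 (MaxEA2)
open scoped Pointwise commutatorElement

universe u
variable {G : Type u} [Group G] [Finite G]

theorem exponent_quot {M E : Subgroup G} (hE : IsComplIn E (fittingHallOf M) M) :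
    Monoid.exponent (↥M ⧸ fittingHall ↥M) = Monoid.exponent E := by
  have h1 := complIn_isComplement hE
  have h2 : (fittingHallOf M).subgroupOf M = fittingHall M := by
    rw [fittingHallOf, subgroupOf, comap_map_eq_self_of_injective M.subtype_injective]
  rw [h2] at h1
  rw [Monoid.exponent_eq_of_mulEquiv h1.QuotientMulEquiv]
  exact Monoid.exponent_eq_of_mulEquiv (Subgroup.subgroupOfEquivOfLe hE.1)

theorem pow_sub_one_cent {V : Subgroup G} {q : ℕ} (hq : q.Prime) (hV : Nat.card V = q) {x : G}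
    (hx : x ∈ nz V) : x ^ (q - 1) ∈ centralizer (V : Set G) := by
  haveI : Fact q.Prime := ⟨hq⟩
  haveI : IsCyclic V := isCyclic_of_prime_card hV
  have h1 : (V.normalizerMonoidHom ⟨x, hx⟩) ^ (q - 1) = 1 := by
    have := pow_card_eq_one' (x := V.normalizerMonoidHom ⟨x, hx⟩)
    rwa [IsCyclic.card_mulAut, hV, Nat.totient_prime hq] at this
  rw [← map_pow] at h1
  rw [mem_cent_iff]
  intro v hv
  have h2 := DFunLike.congr_fun h1 ⟨v, hv⟩
  have h3 : x ^ (q - 1) * v * (x ^ (q - 1))⁻¹ = v := congrArg Subtype.val h2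
  exact mul_inv_eq_iff_eq_mul.1 h3

theorem exponent_dvd_of_free {E V : Subgroup G} {q : ℕ} (hq : q.Prime) (hV : Nat.card V = q)
    (hE : E ≤ nz V) (hfree : ∀ e ∈ E, e ≠ 1 → ∃ v ∈ V, e * v ≠ v * e) :
    Monoid.exponent E ∣ q - 1 := by
  apply Monoid.exponent_dvd_of_forall_pow_eq_one
  rintro ⟨e, he⟩
  apply Subtype.ext
  by_contra hne
  obtain ⟨v, hv, h2⟩ := hfree (e ^ (q - 1)) (pow_mem he _) hne
  exact h2 (mem_cent_iff.1 (pow_sub_one_cent hq hV (hE he)) v hv)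

variable (hG : IsMinSimpleOddOrder G)
variable {M : Subgroup G} {g : G} (h : N7 M g) {p : ℕ} [hpF : Fact p.Prime]
include hG h

theorem N7.comm_le_PP {R : Subgroup G} (hR : R ≤ X7 M g) (hRp : Nat.card R = p) :
    ⁅sigmaCore M, sigmaCore M⁆ ≤ ⁅P7 M p, P7 M p⁆ := by
  have h2 := mulComm_iff.1 (h.C_comm hG hR hRp)
  have h3 : ∀ c ∈ C7 M p, ∀ a ∈ P7 M p, c * a = a * c := fun c hc a ha =>
    mem_cent_iff.1 (h.C_cent hG hc) a ha
  rw [Subgroup.commutator_le]
  intro x hx y hy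
  obtain ⟨a, ha, b, hb, rfl⟩ := (h.PC hG (p := p)).2.2.2 x hx
  obtain ⟨c, hc, d, hd, rfl⟩ := (h.PC hG (p := p)).2.2.2 y hy
  have e : ⁅a * b, c * d⁆ = ⁅a, c⁆ := by
    rw [commutatorElement_def, commutatorElement_def]
    have e1 : b * c = c * b := h3 b hb c hc
    have e2 : b * d * b⁻¹ = d := by rw [h2 b hb d hd, mul_inv_cancel_right]
    have e3 : d * a⁻¹ = a⁻¹ * d := h3 d hd a⁻¹ (inv_mem ha)
    calc a * b * (c * d) * (a * b)⁻¹ * (c * d)⁻¹
        = a * (b * c) * d * b⁻¹ * a⁻¹ * d⁻¹ * c⁻¹ := by group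
      _ = a * c * (b * d * b⁻¹) * a⁻¹ * d⁻¹ * c⁻¹ := by rw [e1]; group
      _ = a * c * (d * a⁻¹) * d⁻¹ * c⁻¹ := by rw [e2]; group
      _ = a * c * a⁻¹ * c⁻¹ := by rw [e3]; group
  rw [e]
  exact commutator_mem_commutator ha hc

variable {R : Subgroup G} (hR : R ≤ X7 M g) (hRp : Nat.card R = p)
  (hna : ¬ IsMulCommutative (P7 M p))
include hR hRp hna

theorem N7.exists_V {q : ℕ} (hq : q.Prime) (hd : q ∣ Nat.card (sigmaCore M)) (hqp : q ≠ p) :
    ∃ V : Subgroup G, V ≤ C7 M p ∧ Nat.card V = q ∧ M ≤ nz V := by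
  have h1 : q ∣ Nat.card (C7 M p) := by
    rw [← complIn_card (h.PC hG (p := p))] at hd
    rcases hq.dvd_mul.1 hd with h2 | h2
    · exact (hqp ((h.P_hall hG).2.1 q hq h2)).elim
    · exact h2
  obtain ⟨V, hV, hVq⟩ := exists_prime_sub' hq h1
  exact ⟨V, hV, hVq, nz_of_cyclic (h.C_cyclic hG hR hRp hna) (C7_nz M p) hV⟩

theorem N7.Z_nz : M ≤ nz (omZ p (P7 M p)) :=
  (P7_nz M p).trans (normalizer_le_normalizer_omZ _ _)

/-- existence of a normal subgroup of order `q` for every `q ∣ |M_σ|` -/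
theorem N7.exists_V' {q : ℕ} (hq : q.Prime) (hd : q ∣ Nat.card (sigmaCore M)) :
    ∃ V : Subgroup G, V ≤ sigmaCore M ∧ Nat.card V = q ∧ M ≤ nz V := by
  by_cases hqp : q = p
  · subst hqp
    exact ⟨omZ q (P7 M q), (omZ_le _ _).trans (P7_le M q), h.Z_card hG hR hRp hna,
      h.Z_nz hG hR hRp hna⟩
  · obtain ⟨V, h1, h2, h3⟩ := h.exists_V hG hR hRp hna hq hd hqp
    exact ⟨V, h1.trans (C7_le M p), h2, h3⟩

/-- case `K = 1` -/
theorem N7.case_K_bot {U : Subgroup G} (hd : IsSigmaDecomposition M ⊥ U) {q : ℕ} (hq : q.Prime)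
    (hqd : q ∣ Nat.card (fittingHallOf M)) : Monoid.exponent (↥M ⧸ fittingHall ↥M) ∣ q - 1 := by
  have hM := h.coatom
  have hfh := h.fh_eq hG
  rw [hfh] at hqd
  have hE : IsComplIn U (sigmaCore M) M := by
    have := dec_compl hG hM hd
    rwa [sup_bot_eq] at this
  rw [exponent_quot (by rw [hfh]; exact hE)]
  have hk : kappa M = ∅ := by
    rw [Set.eq_empty_iff_forall_notMem]
    intro r hr
    have := hd.hall.2.2 r hr.1 hr
    rw [relIndex_bot_left] at this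
    exact this hr.2.1
  obtain ⟨-, E₀, hE₀, he, hfree⟩ := BBX.S1421 hG M hM U hE
    (fun e he he1 ht => free_of_kappa_empty hG hM hd hk (dec_U_le hd he) he1 ht)
  rw [← he]
  obtain ⟨V, hV, hVq, hVn⟩ := h.exists_V' hG hR hRp hna hq hqd
  refine exponent_dvd_of_free hq hVq ((hE₀.trans (dec_U_le hd)).trans hVn) ?_
  intro e he he1
  by_contra hcon
  push Not at hcon
  obtain ⟨v, hv, hv1⟩ := exists_ne_one (ne_bot_of_card_prime (by rw [hVq]; exact hq) : V ≠ ⊥)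
  have h5 : v ∈ sigmaCore M ⊓ centralizer ({e} : Set G) :=
    Subgroup.mem_inf.2 ⟨hV hv, mem_cent_singleton.2 (hcon v hv).symm⟩
  rw [hfree e he he1, Subgroup.mem_bot] at h5
  exact hv1 h5

end Cfsg.Agent.H2
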