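import Cfsg.Agent.H2.BG15j

/-! BG 15.7 (with `M' ≤ F(M)` instead of `M' = F(M)`). -/

set_option autoImplicit false

namespace Cfsg.Agent.H2

open Subgroup Cfsg
open Cfsg.Agent.L (cj nz SylIn sylIn_top)
open Cfsg.Agent.H14 (IsPiSub)
open Cfsg.Agent.OOT
open Cfsg.Agent.H21
open scoped Pointwise commutatorElement

universe u
variable {G : Type u} [Group G] [Finite G]

theorem pCore_eq_piCore (p : ℕ) [Fact p.Prime] (X : Type u) [Group X] [Finite X] :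
    pCore p X = piCore {p} X := by
  unfold pCore piCore
  congr 1
  ext N
  constructor
  · rintro ⟨h1, h2⟩
    exact ⟨h1, isPiSub_of_isPGroup (Set.mem_singleton p) h2⟩
  · rintro ⟨h1, h2⟩
    exact ⟨h1, isPGroup_of_isPiSub h2⟩

theorem pPrimeCore_eq_piCore (p : ℕ) [hp : Fact p.Prime] (X : Type u) [Group X] [Finite X] :
    pPrimeCore p X = piCore {q | q ∉ ({p} : Set ℕ)} X := by
  unfold pPrimeCore piCore
  congr 1
  ext N
  constructor
  · rintro ⟨h1, h2⟩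
    refine ⟨h1, fun q hq hd hqp => ?_⟩
    rw [Set.mem_singleton_iff.1 hqp] at hd
    exact hp.out.one_lt.ne' (Nat.eq_one_of_dvd_coprimes h2 hd dvd_rfl)
  · rintro ⟨h1, h2⟩
    refine ⟨h1, ?_⟩
    rw [Nat.coprime_comm, Nat.Prime.coprime_iff_not_dvd hp.out]
    exact fun hd => h2 p hp.out hd rfl

theorem comm_map_iff {H : Subgroup G} (K : Subgroup H) :
    IsMulCommutative (K.map H.subtype) ↔ IsMulCommutative K := by
  rw [mulComm_iff, mulComm_iff]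
  constructor
  · intro h a ha b hb
    exact Subtype.ext (h a ⟨a, ha, rfl⟩ b ⟨b, hb, rfl⟩)
  · rintro h _ ⟨a, ha, rfl⟩ _ ⟨b, hb, rfl⟩
    exact congrArg Subtype.val (h a ha b hb)

theorem thm_15_7 (hG : IsMinSimpleOddOrder G) {M : Subgroup G} (hM : IsCoatom M) {K U : Subgroup G}
    (hKU : IsSigmaDecomposition M K U) {g : G} (hg : g ∉ M)
    (hX : Cfsg.fittingOf M ⊓ (Cfsg.fittingOf M).map (MulAut.conj g).toMonoidHom ≠ ⊥) :
    (Cfsg.fittingOf M ⊓ (Cfsg.fittingOf M).map (MulAut.conj g).toMonoidHom ≤ Cfsg.fittingHallOf M ∧ IsCyclic ↥(Cfsg.fittingOf M ⊓ (Cfsg.fittingOf M).map (MulAut.conj g).toMonoidHom)) ∧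
      (⁅M, M⁆ ≤ Cfsg.fittingOf M ∧ Cfsg.fittingOf M = Cfsg.sigmaCore M ⊔ Cfsg.piCoreOf {q | q.Prime ∧ q ∉ Cfsg.sigma M} (Cfsg.fittingOf M)) ∧
      ((K = ⊥ ∧ IsMulCommutative (Cfsg.fittingHallOf M) ∧ Cfsg.RankLE 2 (Cfsg.fittingHallOf M) ∧ ¬ Cfsg.RankLE 1 (Cfsg.fittingHallOf M)) ∨
       (∃ p : ℕ, p.Prime ∧ Nat.card ↥(Cfsg.fittingOf M ⊓ (Cfsg.fittingOf M).map (MulAut.conj g).toMonoidHom) = p ∧ p ∈ Cfsg.sigma M ∧ p ∉ Cfsg.beta M ∧
          ¬ IsMulCommutative (Cfsg.pCore p ↥(Cfsg.fittingHallOf M)) ∧ IsCyclic (Cfsg.pPrimeCore p ↥(Cfsg.fittingHallOf M)) ∧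
          ∀ q : ℕ, q.Prime → q ∣ Nat.card (Cfsg.fittingHallOf M) → Monoid.exponent (↥M ⧸ Cfsg.fittingHall ↥M) ∣ q - 1) ∨
       (∃ p : ℕ, p.Prime ∧ Nat.card ↥(Cfsg.fittingOf M ⊓ (Cfsg.fittingOf M).map (MulAut.conj g).toMonoidHom) = p ∧ p ∈ Cfsg.sigma M ∧ p ∉ Cfsg.beta M ∧
          IsCyclic (Cfsg.pPrimeCore p ↥(Cfsg.fittingHallOf M)) ∧ Nat.card (Cfsg.pCore p ↥(Cfsg.fittingHallOf M)) = p ^ 3 ∧
          ¬ IsMulCommutative (Cfsg.pCore p ↥(Cfsg.fittingHallOf M)) ∧ K ≠ ⊥ ∧ U = ⊥ ∧ (Cfsg.fittingHallOf M).relIndex M ∣ p + 1)) := by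
  have h : N7 M g := ⟨hM, hg, hX⟩
  obtain ⟨R, hR, hRprime⟩ := h.exists_R hG
  obtain ⟨p, hRp⟩ : ∃ p, Nat.card R = p := ⟨_, rfl⟩
  haveI hpF : Fact p.Prime := ⟨hRp ▸ hRprime⟩
  have hfh := h.fh_eq hG
  refine ⟨⟨?_, h.cyclic hG⟩, ⟨h.comm_le hG, h.fit_eq hG⟩, ?_⟩
  · rw [hfh]; exact h.le_ms hG
  by_cases hab : IsMulCommutative (P7 M p)
  · left
    rw [hfh]
    exact ⟨h.K_bot hG hR hRp hab hKU, h.H_comm hG hR hRp hab, h.H_rank hG hR hRp hab⟩
  right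
  have hps := h.p_sigma hG hR hRp
  have hXc : Nat.card (X7 M g) = p := by rw [h.X_eq hG hR hRp hab, hRp]
  have hpb : p ∉ beta M := h.not_beta hG hpF.out (by rw [hXc])
  -- translation of the cores
  have t1 : ¬ IsMulCommutative (pCore p ↥(fittingHallOf M)) := by
    rw [hfh, ← comm_map_iff, pCore_eq_piCore]; exact hab
  have t2 : IsCyclic (pPrimeCore p ↥(fittingHallOf M)) := by
    rw [hfh, ← isCyclic_map_iff, pPrimeCore_eq_piCore]
    exact h.C_cyclic hG hR hRp hab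
  have t3 : Nat.card (pCore p ↥(fittingHallOf M)) = Nat.card (P7 M p) := by
    rw [hfh, ← H1.card_map_subtype, pCore_eq_piCore]; rfl
  by_cases hK : K = ⊥
  · left
    subst hK
    exact ⟨p, hpF.out, hXc, hps, hpb, t1, t2, fun q hq hqd => h.case_K_bot hG hR hRp hab hKU hq hqd⟩
  · have hU : U = ⊥ := (h.K_or_U hG hKU).resolve_left hK
    have hE := dec_E_P1 hG hM hKU hU
    have hE' : IsComplIn K (fittingHallOf M) M := by rw [hfh]; exact hE
    obtain ⟨M', hD, -⟩ := PM.exists_dual hG (dec_PM hM hKU hK)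
    have hKc : Monoid.exponent K = Nat.card K := by
      haveI := (hD.cyclic hG).1
      exact IsCyclic.exponent_eq_card
    have hexp := exponent_quot hE'
    by_cases hcase : Monoid.exponent K ∣ p - 1
    · left
      refine ⟨p, hpF.out, hXc, hps, hpb, t1, t2, fun q hq hqd => ?_⟩
      rw [hexp]
      by_cases hqp : q = p
      · rw [hqp]; exact hcase
      · exact h.case_K_ne hG hR hRp hab hKU hK hq (by rwa [hfh] at hqd) hqp
    · right
      have hz : ∃ e ∈ K, e ≠ 1 ∧ ∀ v ∈ omZ p (P7 M p), e * v = v * e := by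
        by_contra hn
        push Not at hn
        exact hcase (h.case_K_free hG hR hRp hab hKU hK hn)
      have hr : PRankLE p 2 (P7 M p) := by
        by_contra hr
        exact hcase (h.case_K_rank3 hG hR hRp hab hKU hK hr)
      obtain ⟨f1, f2⟩ := h.case_K_rank2 hG hR hRp hab hKU hK hr hz
      refine ⟨p, hpF.out, hXc, hps, hpb, t2, t3.trans f1, t1, hK, hU, ?_⟩
      rw [complIn_relIndex_right hE']
      rcases f2 with f2 | f2
      · rw [← hKc] at f2; exact (hcase f2).elim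
      · exact f2

end Cfsg.Agent.H2
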