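import Mathlib
import Cfsg.Agent.H2.Basic
import Cfsg.Agent.H20.ElemAb

/-!
Maschke for coprime action on a finite abelian subgroup: invariant complements.
-/

set_option autoImplicit false
set_option linter.style.haveILetI false
set_option linter.unusedVariables false

namespace Cfsg.Agent.H2

open Subgroup
open scoped commutatorElement Pointwise

section coprime

variable {G : Type*} [Group G]

open scoped IsMulCommutative in
/-- Averaging a projection over the acting group. -/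
theorem exists_average_proj [Finite G] (V K U : Subgroup G) (hc : IsMulCommutative V)
    (hK : K ≤ Subgroup.normalizer (V : Set G)) (hKU : K ≤ Subgroup.normalizer (U : Set G))
    (π : V →* V) (hπ1 : ∀ v : V, (π v : G) ∈ U) (hπ2 : ∀ u : V, (u : G) ∈ U → π u = u) :
    ∃ φ : V →* V, (∀ v : V, (φ v : G) ∈ U) ∧ (∀ u : V, (u : G) ∈ U → φ u = u ^ Nat.card K) ∧
      (∀ v w : V, ∀ k ∈ K, (w : G) = k * v * k⁻¹ → (φ w : G) = k * φ v * k⁻¹) := by
  classical
  haveI : Fintype K := Fintype.ofFinite K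
  have hmem : ∀ (k : K) (a : V), (k : G) * a * (k : G)⁻¹ ∈ V := fun k a =>
    ((Subgroup.mem_normalizer_iff.1 (hK k.2)) a).1 a.2
  let σ : K → (V →* V) := fun k =>
    { toFun := fun a => ⟨(k : G) * a * (k : G)⁻¹, hmem k a⟩
      map_one' := Subtype.ext (by simp)
      map_mul' := fun a b => Subtype.ext (by
        show (k : G) * (a * b) * (k : G)⁻¹ = (k * a * (k : G)⁻¹) * (k * b * (k : G)⁻¹)
        group) }
  have hσ : ∀ k a, ((σ k a : V) : G) = k * a * (k : G)⁻¹ := fun k a => rfl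
  have hσmul : ∀ k l a, σ k (σ l a) = σ (k * l) a := by
    intro k l a
    apply Subtype.ext
    rw [hσ, hσ, hσ]; push_cast; group
  let φ : V →* V := ∏ k : K, (σ k).comp (π.comp (σ k⁻¹))
  have hφ : ∀ a, φ a = ∏ k : K, σ k (π (σ k⁻¹ a)) := fun a => MonoidHom.finsetProd_apply _ _ _
  have hU : ∀ k : K, ∀ v : V, (v : G) ∈ U → ((σ k v : V) : G) ∈ U := by
    intro k v hv
    rw [hσ]
    exact ((Subgroup.mem_normalizer_iff.1 (hKU k.2)) v).1 hv
  refine ⟨φ, ?_, ?_, ?_⟩
  · intro v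
    have h1 : φ v ∈ U.subgroupOf V := by
      rw [hφ]
      apply Subgroup.prod_mem
      intro k _
      exact hU k _ (hπ1 _)
    exact h1
  · intro u hu
    rw [hφ]
    have h1 : ∀ k : K, σ k (π (σ k⁻¹ u)) = u := by
      intro k
      rw [hπ2 _ (hU _ _ hu), hσmul, mul_inv_cancel]
      apply Subtype.ext
      rw [hσ]; simp
    simp only [h1]
    rw [Finset.prod_const, Finset.card_univ, Nat.card_eq_fintype_card]
  · intro v w k hk hw
    have h1 : w = σ ⟨k, hk⟩ v := Subtype.ext (by rw [hσ]; exact hw)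
    have h2 : φ w = σ ⟨k, hk⟩ (φ v) := by
      rw [h1, hφ, hφ, map_prod]
      refine Fintype.prod_equiv (Equiv.mulLeft (⟨k, hk⟩ : K)⁻¹) _ _ (fun x => ?_)
      have e1 : (Equiv.mulLeft (⟨k, hk⟩ : K)⁻¹) x = (⟨k, hk⟩ : K)⁻¹ * x := rfl
      rw [e1]
      simp only [hσmul, mul_inv_cancel_left, mul_inv_rev, inv_inv]
    rw [h2, hσ]

open scoped IsMulCommutative in
/-- Existence of the projection for a complemented subgroup of an abelian group. -/
theorem exists_proj [Finite G] (V U W : Subgroup G) (hc : IsMulCommutative V) (hUV : U ≤ V)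
    (hWV : W ≤ V) (hUW : U ⊓ W = ⊥) (hUWV : U ⊔ W = V) :
    ∃ π : V →* V, (∀ v : V, (π v : G) ∈ U) ∧ (∀ u : V, (u : G) ∈ U → π u = u) := by
  have hcomm := H20.isMulCommutative_iff.1 hc
  let f : U × W →* V :=
    { toFun := fun x => ⟨(x.1 : G) * x.2, mul_mem (hUV x.1.2) (hWV x.2.2)⟩
      map_one' := Subtype.ext (by simp)
      map_mul' := fun x y => Subtype.ext (by
        show ((x.1 * y.1 : U) : G) * ((x.2 * y.2 : W) : G) = (x.1 : G) * x.2 * (y.1 * y.2)
        push_cast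
        have := hcomm _ (hUV y.1.2) _ (hWV x.2.2)
        calc (x.1 : G) * y.1 * (x.2 * y.2) = x.1 * (y.1 * x.2) * y.2 := by group
          _ = x.1 * (x.2 * y.1) * y.2 := by rw [this]
          _ = _ := by group) }
  have hf : ∀ x, ((f x : V) : G) = (x.1 : G) * x.2 := fun x => rfl
  have hinj : Function.Injective f := by
    rw [← MonoidHom.ker_eq_bot_iff, eq_bot_iff]
    intro x hx
    rw [MonoidHom.mem_ker] at hx
    have h1 := congrArg Subtype.val hx
    rw [hf, Subgroup.coe_one, mul_eq_one_iff_eq_inv] at h1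
    have h2 : (x.1 : G) ∈ U ⊓ W := Subgroup.mem_inf.2 ⟨x.1.2, by rw [h1]; exact inv_mem x.2.2⟩
    rw [hUW, Subgroup.mem_bot] at h2
    rw [h2, eq_comm, inv_eq_one] at h1
    rw [Subgroup.mem_bot]
    exact Prod.ext (Subtype.ext h2) (Subtype.ext h1)
  have hsurj : Function.Surjective f := by
    intro v
    have hv : (v : G) ∈ U ⊔ W := by rw [hUWV]; exact v.2
    have hnorm : W ≤ Subgroup.normalizer (U : Set G) := by
      refine le_trans ?_ (Subgroup.centralizer_le_normalizer (U : Set G))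
      intro w hw
      rw [Subgroup.mem_centralizer_iff]
      intro u hu
      exact hcomm u (hUV hu) w (hWV hw)
    have h2 := Subgroup.coe_mul_of_right_le_normalizer_left U W hnorm
    have h3 : (v : G) ∈ (U : Set G) * (W : Set G) := by
      rw [← h2]; exact hv
    obtain ⟨u, hu, w, hw, h⟩ := h3
    exact ⟨(⟨u, hu⟩, ⟨w, hw⟩), Subtype.ext h⟩
  let e : U × W ≃* V := MulEquiv.ofBijective f ⟨hinj, hsurj⟩
  let g : V →* V := (Subgroup.inclusion hUV).comp ((MonoidHom.fst U W).comp e.symm.toMonoidHom)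
  refine ⟨g, ?_, ?_⟩
  · intro v
    exact ((e.symm v).1).2
  · intro u hu
    have h1 : e (⟨u, hu⟩, 1) = u := Subtype.ext (by
      show ((f (⟨u, hu⟩, 1) : V) : G) = u
      rw [hf]; simp)
    have h2 : e.symm u = (⟨u, hu⟩, 1) := by
      rw [MulEquiv.symm_apply_eq]; exact h1.symm
    apply Subtype.ext
    show (((e.symm u).1 : U) : G) = u
    rw [h2]

/-- Maschke: an invariant complemented subgroup has an invariant complement under coprime action. -/
theorem exists_invariant_complement [Finite G] (V K U W : Subgroup G) (hc : IsMulCommutative V)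
    (hK : K ≤ Subgroup.normalizer (V : Set G)) (hcop : (Nat.card K).Coprime (Nat.card V))
    (hUV : U ≤ V) (hKU : K ≤ Subgroup.normalizer (U : Set G))
    (hWV : W ≤ V) (hUW : U ⊓ W = ⊥) (hUWV : U ⊔ W = V) :
    ∃ W' : Subgroup G, W' ≤ V ∧ K ≤ Subgroup.normalizer (W' : Set G) ∧ U ⊓ W' = ⊥ ∧
      U ⊔ W' = V := by
  obtain ⟨π, hπ1, hπ2⟩ := exists_proj V U W hc hUV hWV hUW hUWV
  obtain ⟨φ, hφ1, hφ2, hφ3⟩ := exists_average_proj V K U hc hK hKU π hπ1 hπ2
  have hmem : ∀ x : G, x ∈ φ.ker.map V.subtype ↔ ∃ h : x ∈ V, φ ⟨x, h⟩ = 1 := by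
    intro x
    constructor
    · rintro ⟨y, hy, rfl⟩
      exact ⟨y.2, hy⟩
    · rintro ⟨h, hx⟩
      exact ⟨⟨x, h⟩, hx, rfl⟩
  have hint : U ⊓ φ.ker.map V.subtype = ⊥ := by
    rw [eq_bot_iff]
    intro x hx
    obtain ⟨hxV, hx1⟩ := (hmem x).1 hx.2
    rw [hφ2 ⟨x, hxV⟩ hx.1] at hx1
    have h1 : orderOf (⟨x, hxV⟩ : V) ∣ Nat.card K := orderOf_dvd_of_pow_eq_one hx1
    have h2 : orderOf (⟨x, hxV⟩ : V) ∣ Nat.card V := orderOf_dvd_natCard _
    have h3 : orderOf (⟨x, hxV⟩ : V) = 1 := Nat.eq_one_of_dvd_coprimes hcop h1 h2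
    rw [orderOf_eq_one_iff] at h3
    rw [Subgroup.mem_bot]
    exact congrArg Subtype.val h3
  refine ⟨φ.ker.map V.subtype, Subgroup.map_subtype_le _, ?_, hint, ?_⟩
  · intro k hk
    rw [Subgroup.mem_normalizer_iff]
    have key : ∀ k ∈ K, ∀ x ∈ φ.ker.map V.subtype, k * x * k⁻¹ ∈ φ.ker.map V.subtype := by
      intro k hk x hx
      obtain ⟨hxV, hx1⟩ := (hmem x).1 hx
      have h1 : k * x * k⁻¹ ∈ V := ((Subgroup.mem_normalizer_iff.1 (hK hk)) x).1 hxV
      refine (hmem _).2 ⟨h1, ?_⟩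
      have h2 := hφ3 ⟨x, hxV⟩ ⟨_, h1⟩ k hk rfl
      rw [hx1, Subgroup.coe_one, mul_one, mul_inv_cancel] at h2
      exact Subtype.ext h2
    intro x
    refine ⟨key k hk x, fun h => ?_⟩
    have := key k⁻¹ (inv_mem hk) _ h
    have h2 : k⁻¹ * (k * x * k⁻¹) * k⁻¹⁻¹ = x := by group
    rwa [h2] at this
  · apply le_antisymm (sup_le hUV (Subgroup.map_subtype_le _))
    intro v hv
    -- v = u * (u⁻¹ v), where φ v = φ u
    have hinj : Function.Bijective (fun a : U => a ^ Nat.card K) := by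
      have h4 : (Nat.card U).Coprime (Nat.card K) :=
        (Nat.Coprime.coprime_dvd_right (Subgroup.card_dvd_of_le hUV) hcop).symm
      exact (powCoprime h4).bijective
    obtain ⟨u, hu⟩ := hinj.2 ⟨φ ⟨v, hv⟩, hφ1 _⟩
    have hu' : (u : G) ^ Nat.card K = φ ⟨v, hv⟩ := congrArg Subtype.val hu
    have h5 : φ ⟨u, hUV u.2⟩ = φ ⟨v, hv⟩ := by
      rw [hφ2 _ u.2]
      apply Subtype.ext
      exact hu'
    have h6 : (u : G)⁻¹ * v ∈ φ.ker.map V.subtype := by
      refine (hmem _).2 ⟨mul_mem (inv_mem (hUV u.2)) hv, ?_⟩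
      have h7 : (⟨(u : G)⁻¹ * v, mul_mem (inv_mem (hUV u.2)) hv⟩ : V) =
          (⟨u, hUV u.2⟩ : V)⁻¹ * ⟨v, hv⟩ := rfl
      rw [h7, map_mul, map_inv, h5, inv_mul_cancel]
    have h8 : v = (u : G) * ((u : G)⁻¹ * v) := by group
    rw [h8]
    exact mul_mem ((le_sup_left : U ≤ _) u.2) ((le_sup_right : φ.ker.map V.subtype ≤ _) h6)

end coprime

end Cfsg.Agent.H2
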