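import Cfsg.Agent.H2.CommClosure
import Cfsg.Agent.H2.Frat

/-!
# Basics on regular p-groups
-/

set_option autoImplicit false

namespace Cfsg.Agent.H2

open Cfsg
open scoped commutatorElement

variable {G : Type*} [Group G] {p : ℕ}

theorem powerClosure_le {n : ℕ} {D : Subgroup G} : powerClosure p n D ≤ D := by
  unfold powerClosure
  rw [Subgroup.closure_le]
  rintro y ⟨x, hx, rfl⟩
  exact pow_mem hx _

theorem powerClosure_mono {n : ℕ} {D E : Subgroup G} (h : D ≤ E) :
    powerClosure p n D ≤ powerClosure p n E := by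
  unfold powerClosure
  apply Subgroup.closure_mono
  rintro y ⟨x, hx, rfl⟩
  exact ⟨x, h hx, rfl⟩

theorem powerClosure_map {G' : Type*} [Group G'] (f : G →* G') (n : ℕ) (D : Subgroup G) :
    (powerClosure p n D).map f = powerClosure p n (D.map f) := by
  unfold powerClosure
  rw [MonoidHom.map_closure]
  congr 1
  ext y
  constructor
  · rintro ⟨_, ⟨x, hx, rfl⟩, rfl⟩
    exact ⟨f x, ⟨x, hx, rfl⟩, map_pow f x _⟩
  · rintro ⟨_, ⟨x, hx, rfl⟩, rfl⟩
    exact ⟨x ^ p ^ n, ⟨x, hx, rfl⟩, map_pow f x _⟩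

theorem le_normalizer_powerClosure {A D : Subgroup G} (n : ℕ)
    (h : A ≤ Subgroup.normalizer (D : Set G)) :
    A ≤ Subgroup.normalizer ((powerClosure p n D : Subgroup G) : Set G) := by
  apply H18.le_normalizer_of_conj_mem
  intro a ha x hx
  unfold powerClosure at hx ⊢
  induction hx using Subgroup.closure_induction with
  | mem x hx =>
    obtain ⟨y, hy, rfl⟩ := hx
    apply Subgroup.subset_closure
    refine ⟨a * y * a⁻¹, conj_mem_of_norm (h ha) hy, ?_⟩
    rw [conj_pow]
  | one => rw [mul_one, mul_inv_cancel]; exact one_mem _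
  | mul x y _ _ hx hy =>
    have : a * (x * y) * a⁻¹ = a * x * a⁻¹ * (a * y * a⁻¹) := by group
    rw [this]; exact mul_mem hx hy
  | inv x _ hx =>
    have : a * x⁻¹ * a⁻¹ = (a * x * a⁻¹)⁻¹ := by group
    rw [this]; exact inv_mem hx

/-- a `p`-group equal to the group generated by its `p`-th powers is trivial -/
theorem eq_bot_of_le_powerClosure [Finite G] [Fact p.Prime] {D : Subgroup G} (hD : IsPGroup p D)
    (h : D ≤ powerClosure p 1 D) : D = ⊥ := by
  by_contra hne
  haveI : Nontrivial D := (Subgroup.nontrivial_iff_ne_bot D).2 hne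
  obtain ⟨M, _, hM, hMn⟩ := exists_le_index_eq hD (T := (⊥ : Subgroup D)) bot_ne_top
  have h1 : powerClosure p 1 D ≤ M.map D.subtype := by
    unfold powerClosure
    rw [Subgroup.closure_le]
    rintro y ⟨x, hx, rfl⟩
    refine ⟨⟨x, hx⟩ ^ p ^ 1, ?_, rfl⟩
    rw [pow_one]
    exact pow_mem_of_index hM _
  have h2 : M = ⊤ := by
    rw [eq_top_iff]
    intro x _
    obtain ⟨y, hy, hyx⟩ := h1 (h x.2)
    have : y = x := Subtype.ext hyx
    rwa [← this]
  rw [h2, Subgroup.index_top] at hM
  exact (Fact.out : p.Prime).one_lt.ne hM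

end Cfsg.Agent.H2
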