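import Cfsg.Agent.H21.ZFmain
import Cfsg.Agent.H18.FStarY3
import Cfsg.Agent.H1.Coprime
import Cfsg.Agent.FT

set_option autoImplicit false
set_option linter.all false

/-!
H2/TIFree (helper2): `C_O(a) = C_O(H)` for all `1 ≠ a ∈ H`, `H` not centralizing `O`, coprime: `H` acts freely.
Aut of a Z-group is solvable.
-/

universe u v

namespace Cfsg.Agent.H2

open Subgroup
open scoped commutatorElement Pointwise

theorem freeAct_of_centralizers {G : Type u} [Group G] [Finite G] (H O : Subgroup G)
    (hHO : H ≤ normalizer (O : Set G)) (hcop : (Nat.card H).Coprime (Nat.card O)) (hsol : Group.IsSolvable O)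
    (hcent : ∀ a ∈ H, a ≠ 1 → O ⊓ centralizer ({a} : Set G) ≤ centralizer (H : Set G))
    (hnc : ¬ O ≤ centralizer (H : Set G)) : H21.ZF.FreeAct.{u, u} H := by
  classical
  obtain ⟨X, hX⟩ := (Set.toFinite {X : Subgroup G | X ≤ O ∧ H ≤ normalizer (X : Set G) ∧ ¬ X ≤ centralizer (H : Set G)}).exists_minimal
    ⟨O, le_rfl, hHO, hnc⟩
  obtain ⟨hXO, hHX, hXc⟩ := hX.prop
  have hmin : ∀ Y : Subgroup G, Y ≤ X → H ≤ normalizer (Y : Set G) → ¬ Y ≤ centralizer (H : Set G) → Y = X := by
    intro Y hY h1 h2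
    exact le_antisymm hY (hX.le_of_le ⟨hY.trans hXO, h1, h2⟩ hY)
  have hcopX : (Nat.card H).Coprime (Nat.card X) := Nat.Coprime.coprime_dvd_right (Subgroup.card_dvd_of_le hXO) hcop
  haveI hsolX : Group.IsSolvable X := by
    haveI := hsol
    exact solvable_of_solvable_injective (f := Subgroup.inclusion hXO) (Subgroup.inclusion_injective hXO)
  have hXbot : X ≠ ⊥ := by
    rintro rfl
    exact hXc bot_le
  have hXH : ⁅X, H⁆ = X := by
    apply hmin _ (H1.commutator_le_left_of_le_normalizer hHX) (H1.right_le_normalizer_commutator X H)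
    intro h
    have h1 := H1.commutator_commutator_eq H X hHX hcopX (Or.inr hsolX)
    have h2 : ⁅⁅X, H⁆, H⁆ = ⊥ := Subgroup.commutator_eq_bot_iff_le_centralizer.2 h
    rw [h2] at h1
    exact hXc (Subgroup.commutator_eq_bot_iff_le_centralizer.1 h1.symm)
  have hfix : X ⊓ centralizer (H : Set G) ≤ ⁅X, X⁆ := by
    have h1 : (Nat.card H).Coprime (Nat.card (Abelianization X)) := by
      refine Nat.Coprime.coprime_dvd_right ?_ hcopX
      exact Subgroup.card_quotient_dvd_card _
    have h2 := H18.commutator_inf_centralizer_le_derived' (A := H) (G := X) hHX h1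
    rwa [hXH] at h2
  -- the action
  let cj : H →* MulAut X := 
    { toFun := fun h => 
        { toFun := fun x => ⟨(h : G) * x * (h : G)⁻¹, (Subgroup.mem_normalizer_iff.1 (hHX h.2) x).1 x.2⟩
          invFun := fun x => ⟨(h : G)⁻¹ * x * (h : G), by
            have := (Subgroup.mem_normalizer_iff.1 (hHX (H.inv_mem h.2)) x).1 x.2
            rwa [inv_inv] at this⟩
          left_inv := fun x => by ext; simp only; group
          right_inv := fun x => by ext; simp only; group
          map_mul' := fun x y => by ext; simp only [Subgroup.coe_mul]; group }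
      map_one' := by ext x; simp
      map_mul' := fun a b => by ext x; simp only [MulEquiv.coe_mk, Equiv.coe_fn_mk, MulAut.mul_apply, Subgroup.coe_mul, _root_.mul_inv_rev]; group }
  have hcj : ∀ (h : H) (x : X), ((cj h x : X) : G) = (h : G) * x * (h : G)⁻¹ := fun _ _ => rfl
  have hsurj : ∀ k : Abelianization X, ∃ x : X, Abelianization.of x = k := fun k => QuotientGroup.mk_surjective k
  let φ : H →* MulAut (Abelianization X) :=
    { toFun := fun h => (cj h).abelianizationCongr
      map_one' := by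
        ext k
        obtain ⟨x, rfl⟩ := hsurj k
        rw [map_one]
        rfl
      map_mul' := fun a b => by
        ext k
        obtain ⟨x, rfl⟩ := hsurj k
        rw [map_mul]
        rfl }
  have hφ : ∀ (h : H) (x : X), φ h (Abelianization.of x) = Abelianization.of (cj h x) := fun _ _ => rfl
  refine ⟨Abelianization X, inferInstance, inferInstance, φ, ?_, ?_⟩
  · haveI : Nontrivial X := (Subgroup.nontrivial_iff_ne_bot X).2 hXbot
    have h1 : commutator X < ⊤ := IsSolvable.commutator_lt_top_of_nontrivial X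
    by_contra hcon
    rw [not_nontrivial_iff_subsingleton] at hcon
    apply h1.ne
    rw [eq_top_iff]
    intro x _
    have h2 : Abelianization.of x = Abelianization.of (1 : X) := Subsingleton.elim _ _
    have h3 := (QuotientGroup.eq_iff_div_mem (N := commutator X)).1 h2
    rwa [div_one] at h3
  · intro h hh k hk
    obtain ⟨x, rfl⟩ := hsurj k
    rw [hφ] at hk
    have h3 : (cj h x)⁻¹ * x ∈ commutator X := (QuotientGroup.eq (s := commutator X)).1 hk
    have hD : ∀ y : X, y ∈ commutator X → (y : G) ∈ ⁅X, X⁆ := by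
      intro y hy
      have : (commutator X).map X.subtype = ⁅X, X⁆ := by
        rw [commutator_def, Subgroup.map_commutator]
        congr 1 <;> simp [← MonoidHom.range_eq_map]
      rw [← this]
      exact ⟨y, hy, rfl⟩
    have hD' : ∀ y : X, (y : G) ∈ ⁅X, X⁆ → y ∈ commutator X := by
      intro y hy
      have : (commutator X).map X.subtype = ⁅X, X⁆ := by
        rw [commutator_def, Subgroup.map_commutator]
        congr 1 <;> simp [← MonoidHom.range_eq_map]
      rw [← this] at hy
      obtain ⟨z, hz, hzy⟩ := hy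
      rwa [← Subtype.ext hzy]
    have hXX : ⁅X, X⁆ ≤ X := Subgroup.commutator_le.2 (fun a ha b hb => X.mul_mem (X.mul_mem (X.mul_mem ha hb) (X.inv_mem ha)) (X.inv_mem hb))
    have hHD : H ≤ normalizer ((⁅X, X⁆ : Subgroup G) : Set G) := by
      intro a ha
      rw [H1.mem_normalizer_iff_conj_smul, H1.conj_smul_commutator,
        H1.mem_normalizer_iff_conj_smul.1 (hHX ha)]
    have hhfix : ∀ a ∈ zpowers (h : G), (x : G)⁻¹ * (a * x * a⁻¹) ∈ ⁅X, X⁆ := by
      have hb : (x : G)⁻¹ * ((h : G) * x * (h : G)⁻¹) ∈ ⁅X, X⁆ := by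
        have h5 := (commutator X).inv_mem h3
        have h6 := hD _ h5
        simpa [hcj, mul_assoc] using h6
      -- the set of such a is a subgroup (normalizer of coset)
      let S : Subgroup G := 
        { carrier := {a | a ∈ H ∧ (x : G)⁻¹ * (a * x * a⁻¹) ∈ ⁅X, X⁆}
          one_mem' := ⟨H.one_mem, by simp [Subgroup.one_mem]⟩
          mul_mem' := by
            rintro a b ⟨ha, ha'⟩ ⟨hb, hb'⟩
            refine ⟨H.mul_mem ha hb, ?_⟩
            have h7 : a * ((x : G)⁻¹ * (b * x * b⁻¹)) * a⁻¹ ∈ ⁅X, X⁆ := (Subgroup.mem_normalizer_iff.1 (hHD ha) _).1 hb'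
            have h8 := (⁅X, X⁆ : Subgroup G).mul_mem ha' h7
            have e : (x : G)⁻¹ * (a * x * a⁻¹) * (a * ((x : G)⁻¹ * (b * x * b⁻¹)) * a⁻¹) = (x : G)⁻¹ * (a * b * x * (a * b)⁻¹) := by group
            rwa [e] at h8
          inv_mem' := by
            rintro a ⟨ha, ha'⟩
            refine ⟨H.inv_mem ha, ?_⟩
            have h7 := (Subgroup.mem_normalizer_iff.1 (hHD (H.inv_mem ha)) _).1 ((⁅X, X⁆ : Subgroup G).inv_mem ha')
            have e : a⁻¹ * ((x : G)⁻¹ * (a * x * a⁻¹))⁻¹ * a⁻¹⁻¹ = (x : G)⁻¹ * (a⁻¹ * x * a⁻¹⁻¹) := by group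
            rwa [e] at h7 }
      intro a ha
      exact ((Subgroup.zpowers_le.2 (show (h : G) ∈ S from ⟨h.2, hb⟩)) ha).2
    have hzH : zpowers (h : G) ≤ H := Subgroup.zpowers_le.2 h.2
    have hzcop : (Nat.card (zpowers (h : G))).Coprime (Nat.card X) := Nat.Coprime.coprime_dvd_left (Subgroup.card_dvd_of_le hzH) hcopX
    obtain ⟨c, hc, hc2⟩ := H1.exists_fixed_in_coset' (zpowers (h : G)) X ⁅X, X⁆ hXX (hzH.trans hHD) hzcop (Or.inr hsolX) (x : G) x.2 hhfix
    have hc3 : c ∈ X ⊓ centralizer (H : Set G) := by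
      refine Subgroup.mem_inf.2 ⟨(Subgroup.mem_inf.1 hc).1, ?_⟩
      apply hcent h h.2 (fun e => hh (Subtype.ext e))
      refine Subgroup.mem_inf.2 ⟨hXO (Subgroup.mem_inf.1 hc).1, ?_⟩
      rw [Subgroup.mem_centralizer_singleton_iff]
      exact (Subgroup.mem_centralizer_iff.1 (Subgroup.mem_inf.1 hc).2 _ (Subgroup.mem_zpowers (h : G))).symm
    have hc4 := hfix hc3
    have hx : (x : G) ∈ ⁅X, X⁆ := by
      have h9 := (⁅X, X⁆ : Subgroup G).mul_mem hc4 ((⁅X, X⁆ : Subgroup G).inv_mem hc2)
      have e : c * ((x : G)⁻¹ * c)⁻¹ = x := by group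
      rwa [e] at h9
    have hx' := hD' x hx
    exact (QuotientGroup.eq_one_iff x).2 hx'

end Cfsg.Agent.H2
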